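import Groth.Agent.AlgzSys.Limit
import Groth.Agent.ExtShX.AffineTilde
import Groth.Agent.FormPunct.System
import Groth.Agent.FormLim.Principal

/-!
The canonical extension of a Mittag-Leffler system with adic limit topology.
-/

set_option autoImplicit false
set_option maxHeartbeats 1000000
set_option linter.style.haveILetI false
set_option backward.isDefEq.respectTransparency false
set_option backward.isDefEq.respectTransparency.types false

universe u

open CategoryTheory CategoryTheory.Limits AlgebraicGeometry Opposite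
open ARSys (tr)

noncomputable section

namespace Groth.Agent.AlgzSys

variable {A : Type u} [CommRing A]

/-- The system of quotients of a module. -/
abbrev quotSys (I : Ideal A) (M : ModuleCat.{u} A) : ARSys.PS (ModuleCat.{u} A) :=
  Functor.ofOpSequence (X := fun n => ModuleCat.of A (Formal2.quotPow A I M n))
    (fun n => ModuleCat.ofHom (Formal2.quotPowTrans A I M n))

lemma quotSys_map_mk (I : Ideal A) (M : ModuleCat.{u} A) {n k : ℕ} (h : n ≤ k) (x : M) :
    (tr (quotSys I M) h).hom (Submodule.Quotient.mk x) = Submodule.Quotient.mk x := by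
  induction k, h using Nat.le_induction with
  | base => exact congr(($((quotSys I M).map_id (op n))).hom (Submodule.Quotient.mk x))
  | succ k h ih =>
    rw [← tr_apply (quotSys I M) h (Nat.le_succ k)]
    have e : (tr (quotSys I M) (Nat.le_succ k)).hom (Submodule.Quotient.mk x) = Submodule.Quotient.mk x := by
      show ((quotSys I M).map (homOfLE (Nat.le_succ k)).op).hom _ = _
      rw [Functor.ofOpSequence_map_homOfLE_succ]
      rfl
    rw [e, ih]

/-- Mittag-Leffler in terms of elements. -/
theorem exists_ml {X : ARSys.PS (ModuleCat.{u} A)} (h : ARSys.IsML X) (n : ℕ) :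
    ∃ r, ∀ s, r ≤ s → ∀ y : X.obj (op (n + r)), ∃ y' : X.obj (op (n + s)),
      (tr X (Nat.le_add_right n s)).hom y' = (tr X (Nat.le_add_right n r)).hom y := by
  obtain ⟨r, hr⟩ := h n
  refine ⟨r, fun s hs y => ?_⟩
  let f : X.obj (op (n + s)) ⟶ X.obj (op n) := tr X (Nat.le_add_right n s)
  let g : X.obj (op (n + r)) ⟶ X.obj (op n) := tr X (Nat.le_add_right n r)
  have he : imageSubobject f = imageSubobject g := hr s hs
  have hfac : (imageSubobject f).Factors g := by
    rw [he]
    simpa using imageSubobject_factors_comp_self g (𝟙 (X.obj (op (n + r))))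
  obtain ⟨y', hy'⟩ := (ModuleCat.epi_iff_surjective (factorThruImageSubobject f)).1 inferInstance
    (((imageSubobject f).factorThru g hfac).hom y)
  refine ⟨y', ?_⟩
  have e1 := congr(($(imageSubobject_arrow_comp f)).hom y')
  have e2 := congr(($(Subobject.factorThru_arrow (imageSubobject f) g hfac)).hom y)
  simp only [ModuleCat.hom_comp, LinearMap.comp_apply] at e1 e2
  rw [← e1, hy', e2]

/-- In a Mittag-Leffler system, the stable images lift to the limit. -/
theorem exists_lift_limit {X : ARSys.PS (ModuleCat.{u} A)} (h : ARSys.IsML X) (N : ℕ) :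
    ∃ r, ∀ z : X.obj (op (N + r)), ∃ x : (limit X : ModuleCat.{u} A),
      (limit.π X (op N)).hom x = (tr X (Nat.le_add_right N r)).hom z := by
  choose r hr using exists_ml h
  refine ⟨r N, fun z => ?_⟩
  have step : ∀ (j : ℕ) (w : X.obj (op (N + j + r (N + j)))), ∃ w' : X.obj (op (N + (j + 1) + r (N + (j + 1)))),
      (tr X ((show N + j ≤ N + (j + 1) by omega).trans (Nat.le_add_right _ (r (N + (j + 1)))))).hom w' =
        (tr X (Nat.le_add_right (N + j) (r (N + j)))).hom w := fun j w => by
    obtain ⟨y', hy'⟩ := hr (N + j) (r (N + j) + 1 + r (N + (j + 1))) (by omega) w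
    refine ⟨(tr X (show N + (j + 1) + r (N + (j + 1)) ≤ N + j + (r (N + j) + 1 + r (N + (j + 1))) by omega)).hom y', ?_⟩
    rw [tr_apply, ← hy']
  choose next hnext using step
  let w : ∀ j, X.obj (op (N + j + r (N + j))) := fun j =>
    Nat.rec (motive := fun j => X.obj (op (N + j + r (N + j)))) z next j
  let u : ∀ j, X.obj (op (N + j)) := fun j => (tr X (Nat.le_add_right (N + j) (r (N + j)))).hom (w j)
  have hu : ∀ j k (hjk : j ≤ k), (tr X (Nat.add_le_add_left hjk N)).hom (u k) = u j := by
    intro j k hjk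
    induction k, hjk using Nat.le_induction with
    | base => exact congr(($(X.map_id (op (N + j)))).hom (u j))
    | succ k hjk ih =>
      rw [← tr_apply X (Nat.add_le_add_left hjk N) (show N + k ≤ N + (k + 1) by omega)]
      refine (congrArg (tr X (Nat.add_le_add_left hjk N)).hom ?_).trans ih
      simp only [u]
      rw [tr_apply]
      exact hnext k (w k)
  obtain ⟨x, hx, -⟩ := existsUnique_limit X (fun n => (tr X (Nat.le_add_left n N)).hom (u n)) fun n k hnk => by
    exact (tr_apply X hnk _ (u k)).trans (((congrArg _ (hu n k hnk).symm).trans (tr_apply X _ _ (u k))).symm)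
  refine ⟨x, ?_⟩
  rw [hx]
  have h0 : (tr X (Nat.le_add_left N N)).hom (u N) = u 0 := hu 0 N (Nat.zero_le N)
  exact h0

/-- A Mittag-Leffler system with adic limit topology is pro-isomorphic to the quotients of its limit. -/
theorem isProIsomorphic_quotSys (I : Ideal A) {X : ARSys.PS (ModuleCat.{u} A)} (hml : ARSys.IsML X)
    (hk : ∀ n, ∀ a ∈ I ^ (n + 1), ∀ z : X.obj (op n), a • z = 0)
    (hb : ∀ k, ∃ n, LinearMap.ker (limit.π X (op n)).hom ≤ I ^ k • (⊤ : Submodule A ↑(limit X))) :
    Algz.IsProIsomorphic X (quotSys I (limit X)) := by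
  choose ν₀ hν₀ using hb
  choose r₀ hr₀ using exists_lift_limit hml
  let ν : ℕ → ℕ := fun n => n + (Finset.range (n + 2)).sup ν₀
  have hνmono : Monotone ν := fun a b h => Nat.add_le_add h (Finset.sup_mono (Finset.range_mono (by omega)))
  have hν : ∀ n, LinearMap.ker (limit.π X (op (ν n))).hom ≤ I ^ (n + 1) • (⊤ : Submodule A ↑(limit X)) := by
    intro n x hx
    refine hν₀ (n + 1) ?_
    have hle : ν₀ (n + 1) ≤ ν n :=
      (Finset.le_sup (f := ν₀) (Finset.mem_range.2 (Nat.lt_succ_self (n + 1)))).trans (Nat.le_add_left _ _)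
    rw [LinearMap.mem_ker] at hx ⊢
    rw [← π_tr X hle, hx, map_zero]
  let m : ℕ → ℕ := fun n => (Finset.range (n + 1)).sup fun i => ν i + r₀ (ν i)
  have hm : Monotone m := fun a b h => Finset.sup_mono (Finset.range_mono (by omega))
  have hνm : ∀ n, ν n + r₀ (ν n) ≤ m n := fun n =>
    Finset.le_sup (f := fun i => ν i + r₀ (ν i)) (Finset.mem_range.2 (Nat.lt_succ_self n))
  have hle : ∀ n, n ≤ m n := fun n => ((Nat.le_add_right _ _).trans (Nat.le_add_right _ _)).trans (hνm n)
  have hνm' : ∀ n, ν n ≤ m n := fun n => (Nat.le_add_right _ _).trans (hνm n)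
  have hex : ∀ n (z : X.obj (op (m n))), ∃ x : (limit X : ModuleCat.{u} A),
      (limit.π X (op (ν n))).hom x = (tr X (hνm' n)).hom z := fun n z => by
    obtain ⟨x, hx⟩ := hr₀ (ν n) ((tr X (hνm n)).hom z)
    exact ⟨x, by rw [hx, tr_apply]⟩
  choose lft hlft using hex
  have huniq : ∀ n (z : X.obj (op (m n))) (x : (limit X : ModuleCat.{u} A)),
      (limit.π X (op (ν n))).hom x = (tr X (hνm' n)).hom z →
        (Submodule.Quotient.mk (lft n z) : Formal2.quotPow A I (limit X : ModuleCat.{u} A) n) =
          Submodule.Quotient.mk x := fun n z x hx =>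
    (Submodule.Quotient.eq _).2 (hν n (by rw [LinearMap.mem_ker, map_sub, hlft, hx, sub_self]))
  let a : ∀ n, X.obj (op (m n)) ⟶ ModuleCat.of A (Formal2.quotPow A I (limit X : ModuleCat.{u} A) n) := fun n =>
    ModuleCat.ofHom
      { toFun := fun z => Submodule.Quotient.mk (lft n z)
        map_add' := fun z z' => by
          rw [← Submodule.Quotient.mk_add]
          exact huniq n _ _ (by rw [map_add, map_add, hlft, hlft])
        map_smul' := fun c z => by
          rw [RingHom.id_apply, ← Submodule.Quotient.mk_smul]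
          exact huniq n _ _ (by rw [map_smul, map_smul, hlft]) }
  let η : DerCA.reindex X hm ⟶ quotSys I (limit X) :=
    { app := fun n => a n.unop
      naturality := fun {i j} f => by
        refine ModuleCat.hom_ext (LinearMap.ext fun z => ?_)
        have hji : j.unop ≤ i.unop := leOfHom f.unop
        show Submodule.Quotient.mk (lft j.unop ((tr X (hm hji)).hom z)) =
          (tr (quotSys I (limit X)) hji).hom (Submodule.Quotient.mk (lft i.unop z))
        rw [quotSys_map_mk]
        refine huniq _ _ _ ?_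
        rw [← π_tr X (hνmono hji), hlft, tr_apply, tr_apply] }
  refine ⟨m, hm, hle, η, fun n => ?_⟩
  have hkill : ∀ k, I ^ (k + 1) • (⊤ : Submodule A ↑(limit X)) ≤ LinearMap.ker (limit.π X (op k)).hom := fun k => by
    rw [Submodule.smul_le]
    intro c hc x _
    rw [LinearMap.mem_ker, map_smul]
    exact hk k c hc _
  refine ⟨m n, hle n, ModuleCat.ofHom ((I ^ (m n + 1) • (⊤ : Submodule A ↑(limit X))).liftQ
    (limit.π X (op (m n))).hom (hkill (m n))), ?_, ?_⟩
  · refine ModuleCat.hom_ext (LinearMap.ext fun z => ?_)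
    show (limit.π X (op (m n))).hom (lft (m n) z) = (tr X (hm (hle n))).hom z
    rw [← π_tr X ((Nat.le_add_right (m n) _ : m n ≤ ν (m n))), hlft, tr_apply]
  · refine ModuleCat.hom_ext (LinearMap.ext fun q => ?_)
    obtain ⟨x, rfl⟩ := Submodule.mkQ_surjective _ q
    show Submodule.Quotient.mk (lft n ((limit.π X (op (m n))).hom x)) = (tr (quotSys I (limit X)) (hle n)).hom _
    rw [Submodule.mkQ_apply, quotSys_map_mk]
    exact huniq n _ _ (π_tr X (hνm' n) x).symm

variable [IsNoetherianRing A]

/-- The quotient of a tilde by an ideal. -/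
theorem isIso_desc_tilde {J : Ideal A} {M N : ModuleCat.{u} A} (g : M ⟶ N) (hsurj : Function.Surjective g.hom)
    (hker : LinearMap.ker g.hom ≤ J • (⊤ : Submodule A M))
    (hk : letI := selfOver A; Formal.KilledBy J ((tilde.functor (CommRingCat.of A)).obj N)) :
    letI := selfOver A
    ∃ h : Formal.smulFamily J ((tilde.functor (CommRingCat.of A)).obj M) ≫ (tilde.functor (CommRingCat.of A)).map g = 0,
      IsIso (cokernel.desc _ _ h) := by
  letI := selfOver A
  let T := tilde.functor (CommRingCat.of A)
  let adj := tilde.adjunction (R := CommRingCat.of A)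
  let Γ' := moduleSpecΓFunctor (R := CommRingCat.of A)
  have hT : ∀ (M : ModuleCat.{u} A) (a : A), Formal.smulMod A (T.obj M) a = T.map (a • 𝟙 M) := fun M a => by
    refine (SheafOfModules.toSheaf _).map_injective ?_
    exact (PunctKill.smulAb_tilde (R := CommRingCat.of A) M a).symm
  haveI : Epi g := (ModuleCat.epi_iff_surjective _).2 hsurj
  let t := T.map g
  haveI : Epi g := (ModuleCat.epi_iff_surjective _).2 hsurj
  haveI : T.IsLeftAdjoint := adj.isLeftAdjoint
  haveI : Epi t := inferInstance
  have h := FormLim.smulFamily_comp_eq_zero J t hk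
  refine ⟨h, ?_⟩
  let z := cokernel.π (Formal.smulFamily J (T.obj (M)))
  let y : M ⟶ Γ'.obj (cokernel (Formal.smulFamily J (T.obj (M)))) := adj.homEquiv _ _ z
  have hy : LinearMap.ker g.hom ≤ LinearMap.ker y.hom := by
    refine hker.trans (Submodule.smul_le.2 fun a ha x _ => ?_)
    have e : (a • 𝟙 (M)) ≫ y = 0 := by
      rw [← adj.homEquiv_naturality_left, ← hT]
      exact (congrArg (adj.homEquiv _ _) (FormLim.smulMod_cokernel_π _ _ a ha)).trans (adj.homAddEquiv_zero _ _)
    rw [LinearMap.mem_ker]
    exact congr(($e).hom x)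
  let w₀ : N ⟶ _ := ModuleCat.ofHom (((LinearMap.ker g.hom).liftQ y.hom hy).comp
    (g.hom.quotKerEquivOfSurjective hsurj).symm.toLinearMap)
  have hw₀ : g ≫ w₀ = y := ModuleCat.hom_ext (LinearMap.ext fun x => by
    show (LinearMap.ker g.hom).liftQ y.hom hy ((g.hom.quotKerEquivOfSurjective hsurj).symm (g.hom x)) = y.hom x
    rw [show g.hom x = g.hom.quotKerEquivOfSurjective hsurj (Submodule.Quotient.mk x) from rfl,
      LinearEquiv.symm_apply_apply, Submodule.liftQ_apply])
  let w := (adj.homEquiv _ _).symm w₀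
  have hw : t ≫ w = z := by
    rw [← adj.homEquiv_naturality_left_symm, hw₀, Equiv.symm_apply_apply]
  refine ⟨w, ?_, ?_⟩
  · rw [← cancel_epi z, ← Category.assoc, cokernel.π_desc, hw, Category.comp_id]
  · rw [← cancel_epi t, ← Category.assoc, hw, cokernel.π_desc, Category.comp_id]

/-- The tilde of an adic system of finite modules is a coherent formal module. -/
theorem isCohFormal_tilde {I : Ideal A} (Q : ℕ → ModuleCat.{u} A) (g : ∀ n, Q (n + 1) ⟶ Q n)
    (hfin : ∀ n, Module.Finite A (Q n)) (hkill : ∀ n, ∀ a ∈ I ^ (n + 1), ∀ z : Q n, a • z = 0)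
    (hsurj : ∀ n, Function.Surjective (g n).hom)
    (hker : ∀ n, LinearMap.ker (g n).hom ≤ I ^ (n + 1) • (⊤ : Submodule A (Q (n + 1)))) :
    @Formal.IsCohFormal A _ _ (selfOver A) I (Functor.ofOpSequence g ⋙ tilde.functor (CommRingCat.of A)) := by
  letI := selfOver A
  let T := tilde.functor (CommRingCat.of A)
  let adj := tilde.adjunction (R := CommRingCat.of A)
  let Γ' := moduleSpecΓFunctor (R := CommRingCat.of A)
  have hT : ∀ (M : ModuleCat.{u} A) (a : A), Formal.smulMod A (T.obj M) a = T.map (a • 𝟙 M) := fun M a => by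
    refine (SheafOfModules.toSheaf _).map_injective ?_
    exact (PunctKill.smulAb_tilde (R := CommRingCat.of A) M a).symm
  have hk : ∀ n, Formal.KilledBy (I ^ (n + 1)) (T.obj (Q n)) := fun n a ha => by
    rw [hT, show a • 𝟙 (Q n) = 0 from ModuleCat.hom_ext (LinearMap.ext fun z => hkill n a ha z), Functor.map_zero]
  have hc : ∀ n, Coh.IsCoh (T.obj (Q n)) := fun n => by
    haveI := hfin n
    exact ExtShX.isCoh_tilde A (Q n)
  refine ⟨hc, hk, fun n => ?_⟩
  simp only [Functor.comp_map, Functor.ofOpSequence_map_homOfLE_succ]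
  exact isIso_desc_tilde (g n) (hsurj n) (hker n) (hk n)

variable {I : Ideal A} (U : (Spec (CommRingCat.of A)).Opens)

lemma sectMod_killed {G : ℕᵒᵖ ⥤ (U : Scheme.{u}).Modules} (hG : Formal.IsCohFormal I G) (n : ℕ) (a : A)
    (ha : a ∈ I ^ (n + 1)) (z : (Algz.sectMod A U G).obj (op n)) : a • z = 0 :=
  FormPunct.smul_eq_zero_of_killedBy (hG.2.1 n) (M := (Algz.sectMod A U G).obj (op n))
    (W7Cech.gsH0L A (G.obj (op n))).toModuleIso.hom (W7Cech.gsH0L A (G.obj (op n))).injective a ha z

/-- A canonical extension from the Mittag-Leffler condition and the adic limit topology. -/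
theorem canonicallyExtends_of_isML {G : ℕᵒᵖ ⥤ (U : Scheme.{u}).Modules} (hG : Formal.IsCohFormal I G)
    (ha : ARSys.IsML (Algz.sectMod A U G))
    (hb : ∀ k : ℕ, ∃ n : ℕ, LinearMap.ker (limit.π (Algz.sectMod A U G) (op n)).hom ≤
      I ^ k • (⊤ : Submodule A ↑(limit (Algz.sectMod A U G))))
    (hc : ∀ n : ℕ, Module.Finite A ↥(LinearMap.range (limit.π (Algz.sectMod A U G) (op n)).hom)) :
    Algz.CanonicallyExtends A I U G := by
  let X := Algz.sectMod A U G
  let M : ModuleCat.{u} A := limit X
  have hp : Algz.IsProIsomorphic X (quotSys I M) :=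
    isProIsomorphic_quotSys I ha (fun n a h z => sectMod_killed U hG n a h z) hb
  have hfin : ∀ n, Module.Finite A (Formal2.quotPow A I M n) := fun n => by
    obtain ⟨N, hN⟩ := hb (n + 1)
    haveI := hc N
    let p := (limit.π X (op N)).hom
    let e := p.quotKerEquivRange
    haveI : Module.Finite A (M ⧸ LinearMap.ker p) := Module.Finite.equiv e.symm
    exact Module.Finite.of_surjective (Submodule.factor hN) (Submodule.factor_surjective hN)
  refine ⟨quotSys I M ⋙ tilde.functor (CommRingCat.of A), ?_, isProIsomorphic_map hp _⟩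
  refine isCohFormal_tilde (fun n => ModuleCat.of A (Formal2.quotPow A I M n))
    (fun n => ModuleCat.ofHom (Formal2.quotPowTrans A I M n)) hfin (fun n a h z => ?_) (fun n q => ?_)
    fun n q hq => ?_
  · obtain ⟨x, rfl⟩ := Submodule.mkQ_surjective _ z
    exact (map_smul _ a x).symm.trans ((Submodule.Quotient.mk_eq_zero _).2 (Submodule.smul_mem_smul h Submodule.mem_top))
  · obtain ⟨x, rfl⟩ := Submodule.mkQ_surjective _ q
    exact ⟨Submodule.Quotient.mk x, rfl⟩
  · obtain ⟨x, rfl⟩ := Submodule.mkQ_surjective _ q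
    have hx : x ∈ I ^ (n + 1) • (⊤ : Submodule A M) := (Submodule.Quotient.mk_eq_zero _).1 hq
    have := Submodule.mem_map_of_mem (f := (I ^ (n + 1 + 1) • (⊤ : Submodule A M)).mkQ) hx
    rw [Submodule.map_smul'', Submodule.map_top, Submodule.range_mkQ] at this
    exact this

end Groth.Agent.AlgzSys
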