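import Groth.Agent.AlgzSys.Open
import Groth.Agent.W7Exist.Algebraize
import Groth.Agent.TMul.RelAmpleOps

/-!
Algebraization of coherent formal modules on an affine scheme.
-/

set_option autoImplicit false
set_option maxHeartbeats 1000000
set_option linter.style.haveILetI false
set_option backward.isDefEq.respectTransparency false
set_option backward.isDefEq.respectTransparency.types false

universe u

open CategoryTheory CategoryTheory.Limits AlgebraicGeometry Opposite

noncomputable section

namespace Groth.Agent.AlgzSys

variable {A : Type u} [CommRing A] [IsNoetherianRing A] {I : Ideal A} [IsAdicComplete I A]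

theorem exists_algebraization_affine (G' : ℕᵒᵖ ⥤ (Spec (CommRingCat.of A)).Modules)
    (hG' : @Formal.IsCohFormal A _ _ (selfOver A) I G') :
    ∃ M, Coh.IsCoh M ∧ Nonempty (@Formal.completion A _ _ (selfOver A) I M ≅ G') := by
  letI := selfOver A
  haveI : IsProper (Spec (CommRingCat.of A) ↘ Spec (CommRingCat.of A)) :=
    inferInstanceAs (IsProper (𝟙 (Spec (CommRingCat.of A))))
  exact W7Exist.exists_algebraization A I
    (TMul.isAmple_of_isQuasiAffine (L := Coh.structureModule (Spec (CommRingCat.of A))) TMul.isInvertible_structureModule)
    G' hG'

end Groth.Agent.AlgzSys
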