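import Groth.Agent.AlgzSys.Open
import Groth.Agent.W7Exist.Killed
import Groth.Agent.FormLim.Principal
import Groth.Agent.ResExt.Completion
import Groth.Agent.QC.FiniteType

/-!
Extendability of coherent formal modules is unchanged by completing the base ring.
-/

set_option autoImplicit false
set_option maxHeartbeats 1000000
set_option linter.style.haveILetI false
set_option backward.isDefEq.respectTransparency false
set_option backward.isDefEq.respectTransparency.types false

universe u

open CategoryTheory CategoryTheory.Limits AlgebraicGeometry TopologicalSpace Opposite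
open Groth.Agent.QC (res)

noncomputable section

namespace Groth.Agent.AlgzSys

/-- Sections over opens inside the range of an open immersion are those of the restriction. -/
lemma bijective_unit_app {X Y : Scheme.{u}} (j : Y ⟶ X) [IsOpenImmersion j] (N : X.Modules) {V : X.Opens}
    (hV : V ≤ j.opensRange) : Function.Bijective (((Scheme.Modules.restrictAdjunction j).unit.app N).app V) := by
  let R := Scheme.Modules.restrictFunctor j
  have hiso : IsIso (R.map ((Scheme.Modules.restrictAdjunction j).unit.app N)) := by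
    haveI : IsIso (R.map ((Scheme.Modules.restrictAdjunction j).unit.app N) ≫
        (Scheme.Modules.restrictAdjunction j).counit.app (R.obj N)) := by
      rw [(Scheme.Modules.restrictAdjunction j).left_triangle_components N]; infer_instance
    exact IsIso.of_isIso_comp_right _ ((Scheme.Modules.restrictAdjunction j).counit.app (R.obj N))
  have hVeq : j ''ᵁ (j ⁻¹ᵁ V) = V := by
    rw [j.image_preimage_eq_opensRange_inf]; exact inf_eq_right.2 hV
  have := ConcreteCategory.bijective_of_isIso
    ((R.map ((Scheme.Modules.restrictAdjunction j).unit.app N)).app (j ⁻¹ᵁ V))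
  rw [← hVeq]
  exact this

section Restrict

variable {X X' : Scheme.{u}} (g : X' ⟶ X) (U : X.Opens)

/-- The base change map for restriction and direct image. -/
def bcHom : Scheme.Modules.pushforward g ⋙ Scheme.Modules.restrictFunctor U.ι ⟶
    Scheme.Modules.restrictFunctor (g ⁻¹ᵁ U).ι ⋙ Scheme.Modules.pushforward (g ∣_ U) :=
  (Functor.whiskerRight
    (Functor.whiskerRight (Scheme.Modules.restrictAdjunction (g ⁻¹ᵁ U).ι).unit (Scheme.Modules.pushforward g) ≫
      (Functor.isoWhiskerLeft (Scheme.Modules.restrictFunctor (g ⁻¹ᵁ U).ι)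
        (Scheme.Modules.pushforwardComp (g ⁻¹ᵁ U).ι g ≪≫
          Scheme.Modules.pushforwardCongr (morphismRestrict_ι g U).symm ≪≫
          (Scheme.Modules.pushforwardComp (g ∣_ U) U.ι).symm)).hom) (Scheme.Modules.restrictFunctor U.ι)) ≫
    Functor.whiskerLeft (Scheme.Modules.restrictFunctor (g ⁻¹ᵁ U).ι ⋙ Scheme.Modules.pushforward (g ∣_ U))
      (Scheme.Modules.restrictAdjunction U.ι).counit

/-- Restriction commutes with direct image. -/
theorem nonempty_bc : Nonempty (Scheme.Modules.pushforward g ⋙ Scheme.Modules.restrictFunctor U.ι ≅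
    Scheme.Modules.restrictFunctor (g ⁻¹ᵁ U).ι ⋙ Scheme.Modules.pushforward (g ∣_ U)) := by
  haveI : ∀ N : X'.Modules, IsIso ((Scheme.Modules.restrictFunctor U.ι).map
      ((Scheme.Modules.pushforward g).map ((Scheme.Modules.restrictAdjunction (g ⁻¹ᵁ U).ι).unit.app N))) := fun N => by
    rw [Scheme.Modules.Hom.isIso_iff_isIso_app]
    intro W
    rw [ConcreteCategory.isIso_iff_bijective]
    refine bijective_unit_app (g ⁻¹ᵁ U).ι N (V := g ⁻¹ᵁ (U.ι ''ᵁ W)) ?_
    rw [Scheme.Opens.opensRange_ι]
    exact g.preimage_mono (U.ι_image_le W)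
  have h : ∀ N : X'.Modules, IsIso ((bcHom g U).app N) := fun N => by
    refine @IsIso.comp_isIso _ _ _ _ _ _ _ ?_ ?_
    · simp only [Functor.whiskerRight_app, NatTrans.comp_app, Functor.map_comp]
      exact @IsIso.comp_isIso _ _ _ _ _ _ _ (this N) (Functor.map_isIso _ _)
    · simp only [Functor.whiskerLeft_app]
      infer_instance
  haveI := h
  haveI := NatIso.isIso_of_isIso_app (bcHom g U)
  exact ⟨asIso (bcHom g U)⟩

/-- Restriction commutes with inverse image. -/
theorem nonempty_pull_bc : Nonempty (Scheme.Modules.pullback g ⋙ Scheme.Modules.restrictFunctor (g ⁻¹ᵁ U).ι ≅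
    Scheme.Modules.restrictFunctor U.ι ⋙ Scheme.Modules.pullback (g ∣_ U)) :=
  ⟨Functor.isoWhiskerLeft (Scheme.Modules.pullback g) (Scheme.Modules.restrictFunctorIsoPullback (g ⁻¹ᵁ U).ι) ≪≫
    Scheme.Modules.pullbackComp (g ⁻¹ᵁ U).ι g ≪≫
    Scheme.Modules.pullbackCongr (morphismRestrict_ι g U).symm ≪≫
    (Scheme.Modules.pullbackComp (g ∣_ U) U.ι).symm ≪≫
    Functor.isoWhiskerRight (Scheme.Modules.restrictFunctorIsoPullback U.ι).symm _⟩

end Restrict

section Affine

variable {A B : Type u} [CommRing A] [CommRing B] [IsNoetherianRing B] {I : Ideal A} (φ : A →+* B)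

local notation "gφ" => Spec.map (CommRingCat.ofHom φ)

lemma hq_spec : letI := selfOver A; letI := selfOver B
    gφ ≫ (Spec (CommRingCat.of A) ↘ Spec (CommRingCat.of A)) =
      (Spec (CommRingCat.of B) ↘ Spec (CommRingCat.of B)) ≫ gφ :=
  (Category.comp_id _).trans (Category.id_comp _).symm

/-- Direct image of a coherent module killed by a power, when `A` surjects modulo that power. -/
theorem isCoh_push (k : ℕ) (hdense : ∀ b, ∃ a, b - φ a ∈ (I.map φ) ^ k)
    {N : (Spec (CommRingCat.of B)).Modules} (hN : Coh.IsCoh N)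
    (hk : @Formal.KilledBy B _ _ (selfOver B) ((I.map φ) ^ k) N) :
    Coh.IsCoh ((Scheme.Modules.pushforward gφ).obj N) := by
  classical
  letI := selfOver A
  letI := selfOver B
  haveI : N.IsQuasicoherent := hN.1
  have hq : Coh.IsQCoh ((Scheme.Modules.pushforward gφ).obj N) := QC.isQCoh_pushforward gφ
  haveI : ((Scheme.Modules.pushforward gφ).obj N).IsQuasicoherent := hq
  refine ⟨hq, QC.isFT_iff_exists_hasFinGen.mpr fun x => ⟨⊤, trivial, ?_⟩⟩
  haveI : Module.Finite Γ(Spec (CommRingCat.of A), ⊤) Γ((Scheme.Modules.pushforward gφ).obj N, ⊤) := by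
    obtain ⟨T, hT⟩ := (QC.finite_sections (isAffineOpen_top (Spec (CommRingCat.of B))) hN.2).fg_top
    let T' : Finset Γ((Scheme.Modules.pushforward gφ).obj N, ⊤) := (show Finset Γ(N, ⊤) from T)
    refine ⟨⟨T', eq_top_iff.2 fun s _ => ?_⟩⟩
    let W := Submodule.span Γ(Spec (CommRingCat.of A), ⊤) (T' : Set Γ((Scheme.Modules.pushforward gφ).obj N, ⊤))
    have hs : (show Γ(N, ⊤) from s) ∈ Submodule.span Γ(Spec (CommRingCat.of B), ⊤) (T : Set Γ(N, ⊤)) := by
      rw [hT]; trivial
    obtain ⟨c, -, hc⟩ := Submodule.mem_span_finset.1 hs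
    rw [show s = ∑ t ∈ T, c t • (show Γ(N, ⊤) from t) from hc.symm]
    refine W.sum_mem fun t ht => ?_
    obtain ⟨b, hb⟩ := (Scheme.ΓSpecIso (CommRingCat.of B)).symm.commRingCatIsoToRingEquiv.surjective (c t)
    have hb' : c t = W7Cech.secRing B (⊤ : (Spec (CommRingCat.of B)).Opens) b := by
      rw [← hb]
      symm
      change (Spec (CommRingCat.of B)).presheaf.map (homOfLE le_rfl).op _ = _
      simp [Coh.toGlobal]
      rfl
    obtain ⟨a, ha⟩ := hdense b
    have key : c t • (show Γ(N, ⊤) from t) =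
        W7Cech.secRing B (⊤ : (Spec (CommRingCat.of B)).Opens) (φ a) • (show Γ(N, ⊤) from t) := by
      rw [hb', ← sub_eq_zero, ← sub_smul, ← map_sub]
      exact W7Exist.smul_eq_zero_of_killedBy hk ⊤ _ (Ideal.mem_map_of_mem _ ha) _
    rw [key]
    have e := W7Exist.secRing_pull (hq := hq_spec φ) (⊤ : (Spec (CommRingCat.of A)).Opens) a
    have e2 : W7Cech.secRing B (⊤ : (Spec (CommRingCat.of B)).Opens) (φ a) • (show Γ(N, ⊤) from t) =
        (show Γ(N, ⊤) from W7Cech.secRing A (⊤ : (Spec (CommRingCat.of A)).Opens) a •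
          (show Γ((Scheme.Modules.pushforward gφ).obj N, ⊤) from t)) :=
      congrArg (· • (show Γ(N, ⊤) from t)) e.symm
    rw [e2]
    exact W.smul_mem _ (Submodule.subset_span ht)
  exact QC.hasFinGen_of_finite (isAffineOpen_top (Spec (CommRingCat.of A)))

/-- Direct image of a coherent formal module along a map of rings surjective modulo the powers. -/
theorem isCohFormal_push (hdense : ∀ k b, ∃ a, b - φ a ∈ (I.map φ) ^ k)
    {C : ℕᵒᵖ ⥤ (Spec (CommRingCat.of B)).Modules} (hC : @Formal.IsCohFormal B _ _ (selfOver B) (I.map φ) C) :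
    @Formal.IsCohFormal A _ _ (selfOver A) I (C ⋙ Scheme.Modules.pushforward gφ) := by
  letI := selfOver A
  letI := selfOver B
  let P := Scheme.Modules.pushforward gφ
  have hk : ∀ n, Formal.KilledBy (I ^ (n + 1)) (P.obj (C.obj (op n))) := fun n =>
    W7Exist.killedBy_push (hq := hq_spec φ) (by rw [Ideal.map_pow]; exact hC.2.1 n)
  refine ⟨fun n => isCoh_push φ (n + 1) (hdense (n + 1)) (hC.1 n) (hC.2.1 n), hk, fun n => ?_⟩
  let t := P.map (W7Exist.tn C n)
  let M := P.obj (C.obj (op (n + 1)))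
  let J := I ^ (n + 1)
  let π := cokernel.π (Formal.smulFamily J M)
  have h : Formal.smulFamily J M ≫ t = 0 := FormLim.smulFamily_comp_eq_zero J t (hk n)
  refine ⟨h, ?_⟩
  have haff : ∀ V : (Spec (CommRingCat.of A)).Opens, IsAffineOpen V → IsAffineOpen (gφ ⁻¹ᵁ V) := fun V hV => hV.preimage gφ
  haveI : Epi t := ⟨fun {Q} a b hab => by
    refine Scheme.Modules.hom_ext _ _ fun W => ?_
    ext s
    refine QC.section_eq_of_locally fun x hx => ?_
    obtain ⟨_, ⟨V, hV, rfl⟩, hxV, hVW⟩ :=
      (Scheme.isBasis_affineOpens (Spec (CommRingCat.of A))).exists_subset_of_mem_open hx W.2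
    replace hVW : V ≤ W := hVW
    refine ⟨V, hVW, hxV, ?_⟩
    refine (QC.app_res a hVW s).trans (Eq.trans ?_ (QC.app_res b hVW s).symm)
    haveI := W7Exist.epi_tn hC n
    obtain ⟨z, hz⟩ := QC.app_surjective_of_epi (haff V hV) (hC.1 _).1 (hC.1 _).1 (W7Exist.tn C n) (res _ hVW s)
    rw [← show t.app V z = res _ hVW s from hz]
    exact congr(($hab).app V z)⟩
  have hker : kernel.ι t ≫ π = 0 := by
    refine Scheme.Modules.hom_ext _ _ fun W => ?_
    ext s
    refine QC.section_eq_of_locally fun x hx => ?_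
    obtain ⟨_, ⟨V, hV, rfl⟩, hxV, hVW⟩ :=
      (Scheme.isBasis_affineOpens (Spec (CommRingCat.of A))).exists_subset_of_mem_open hx W.2
    replace hVW : V ≤ W := hVW
    refine ⟨V, hVW, hxV, ?_⟩
    refine Eq.trans ?_ (map_zero _).symm
    refine (QC.app_res _ hVW s).trans ?_
    generalize res _ hVW s = s'
    have h0 : (W7Exist.tn C n).app (gφ ⁻¹ᵁ V) ((kernel.ι t).app V s') = 0 := congr(($(kernel.condition t)).app V s')
    have hm := (W7Exist.tn_app_eq_zero_iff hC n (haff V hV) _).1 h0
    have key : ∀ z : Γ(C.obj (op (n + 1)), gφ ⁻¹ᵁ V),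
        z ∈ (((I ^ (n + 1)).map ((W7Cech.secRing B (gφ ⁻¹ᵁ V)).comp φ)) • ⊤ :
          Submodule Γ(Spec (CommRingCat.of B), gφ ⁻¹ᵁ V) Γ(C.obj (op (n + 1)), gφ ⁻¹ᵁ V)) →
        π.app V (show Γ(M, V) from z) = 0 := by
      intro z hz
      refine Submodule.smul_induction_on (p := fun z : Γ(C.obj (op (n + 1)), gφ ⁻¹ᵁ V) => π.app V (show Γ(M, V) from z) = 0) hz (fun c hc m hm => ?_)
        fun a b ha hb => (map_add _ _ _).trans (by rw [ha, hb, add_zero])
      clear hm
      revert m
      refine Submodule.span_induction (p := fun c _ => ∀ m : Γ(C.obj (op (n + 1)), gφ ⁻¹ᵁ V),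
        π.app V (show Γ(M, V) from (c • m : Γ(C.obj (op (n + 1)), gφ ⁻¹ᵁ V))) = 0) ?_ ?_ ?_ ?_ hc
      · rintro _ ⟨a, ha, rfl⟩ m
        rw [RingHom.comp_apply, ← W7Exist.secRing_pull (hq := hq_spec φ) V a]
        exact congr(($(FormLim.smulMod_cokernel_π J M a ha)).app V (show Γ(M, V) from m))
      · intro m
        rw [zero_smul]
        exact map_zero _
      · intro c d _ _ hc hd m
        rw [add_smul]
        exact (map_add _ _ _).trans (by rw [hc m, hd m, add_zero])
      · intro r c _ hc m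
        rw [smul_eq_mul, mul_comm, mul_smul]
        exact hc (r • m)
    refine key ((kernel.ι t).app V s') ?_
    rw [Ideal.map_pow, ← Ideal.map_map]
    exact hm
  let w := Abelian.epiDesc t π hker
  have hw : t ≫ w = π := Abelian.comp_epiDesc _ _ _
  refine ⟨w, ?_, ?_⟩
  · refine (cancel_epi π).1 ?_
    refine (Category.assoc _ _ _).symm.trans ?_
    exact ((congrArg (· ≫ w) (cokernel.π_desc _ _ _)).trans hw).trans (Category.comp_id _).symm
  · refine (cancel_epi t).1 ?_
    refine (Category.assoc _ _ _).symm.trans ?_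
    exact ((congrArg (· ≫ cokernel.desc _ _ h) hw).trans (cokernel.π_desc _ _ _)).trans (Category.comp_id _).symm

end Affine

section Completion

variable {A : Type u} [CommRing A] [IsNoetherianRing A] {I : Ideal A} (U : (Spec (CommRingCat.of A)).Opens)

local notation "B" => AdicCompletion I A
local notation "I'" => Ideal.map (algebraMap A (AdicCompletion I A)) I
local notation "g" => Spec.map (CommRingCat.ofHom (algebraMap A (AdicCompletion I A)))

lemma dense_completion (k : ℕ) (b : B) : ∃ a : A, b - algebraMap A B a ∈ (I') ^ k := by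
  obtain ⟨r, hr⟩ := AdicCompletion.mk_surjective I A b
  refine ⟨r.val k, ?_⟩
  have h : b - algebraMap A B (r.val k) ∈ (I ^ k • ⊤ : Submodule A B) := by
    rw [AdicCompletion.pow_smul_top_eq_ker_eval (IsNoetherian.noetherian I : I.FG), LinearMap.mem_ker, map_sub, ← hr]
    change Submodule.Quotient.mk (r.val k) - Submodule.Quotient.mk (r.val k) = _
    exact sub_self _
  rw [Ideal.smul_top_eq_map, Submodule.restrictScalars_mem, Ideal.map_pow] at h
  exact h

lemma sq_restrict :
    IsPullback (g ∣_ U) ((↑(g ⁻¹ᵁ U) : Scheme.{u}) ↘ Spec (CommRingCat.of B))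
      ((↑U : Scheme.{u}) ↘ Spec (CommRingCat.of A)) g :=
  isPullback_morphismRestrict g U

/-- A coherent formal module is the direct image of its inverse image on the completion. -/
theorem nonempty_push_pull {G : ℕᵒᵖ ⥤ (U : Scheme.{u}).Modules} (hG : Formal.IsCohFormal I G) :
    Nonempty ((G ⋙ Scheme.Modules.pullback (g ∣_ U)) ⋙ Scheme.Modules.pushforward (g ∣_ U) ≅ G) := by
  let η := Functor.whiskerLeft G (Scheme.Modules.pullbackPushforwardAdjunction (g ∣_ U)).unit
  haveI : ∀ n, IsIso (η.app n) := fun n =>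
    W7Exist.isIso_unit_of_killedBy I (sq_restrict U) (n.unop + 1) (hG.1 n.unop).1 (hG.2.1 n.unop)
  haveI := NatIso.isIso_of_isIso_app η
  exact ⟨Functor.associator _ _ _ ≪≫ (asIso η).symm ≪≫ G.rightUnitor⟩

/-- Extendability is unchanged by completion. -/
theorem extends_iff_pull {G : ℕᵒᵖ ⥤ (U : Scheme.{u}).Modules} (hG : Formal.IsCohFormal I G) :
    @Algz.Extends A _ (Spec (CommRingCat.of A)) (selfOver A) I U G ↔
      @Algz.Extends B _ (Spec (CommRingCat.of B)) (selfOver B) (I') (g ⁻¹ᵁ U)
        (G ⋙ Scheme.Modules.pullback (g ∣_ U)) := by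
  letI := selfOver A
  letI := selfOver B
  haveI : IsNoetherianRing B := ResExt.isNoetherianRing_adicCompletion I (IsNoetherian.noetherian I)
  constructor
  · rintro ⟨H, hH, ⟨e⟩⟩
    obtain ⟨b⟩ := nonempty_pull_bc g U
    exact ⟨H ⋙ Scheme.Modules.pullback g, W7Exist.isCohFormal_pull (hq := hq_spec (algebraMap A B)) (I := I) hH,
      ⟨Functor.associator _ _ _ ≪≫ Functor.isoWhiskerLeft H b ≪≫ (Functor.associator _ _ _).symm ≪≫
        Functor.isoWhiskerRight e _⟩⟩
  · rintro ⟨C, hC, ⟨e⟩⟩
    obtain ⟨b⟩ := nonempty_bc g U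
    obtain ⟨p⟩ := nonempty_push_pull U hG
    exact ⟨C ⋙ Scheme.Modules.pushforward g, isCohFormal_push (algebraMap A B) dense_completion hC,
      ⟨Functor.associator _ _ _ ≪≫ Functor.isoWhiskerLeft C b ≪≫ (Functor.associator _ _ _).symm ≪≫
        Functor.isoWhiskerRight e _ ≪≫ p⟩⟩

end Completion

end Groth.Agent.AlgzSys
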