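import Groth.Agent.AlgzSys.Open
import Groth.Agent.S11133

/-!
Flat base change of canonical extensions.
-/

set_option autoImplicit false
set_option maxHeartbeats 1000000
set_option linter.style.haveILetI false
set_option backward.isDefEq.respectTransparency false
set_option backward.isDefEq.respectTransparency.types false

universe u

open CategoryTheory CategoryTheory.Limits AlgebraicGeometry TopologicalSpace Opposite

noncomputable section

namespace Groth.Agent.AlgzSys

/-- Pullback of coherent formal modules, without Noetherian hypotheses on the source. -/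
theorem isCohFormal_pull' {A B : Type u} [CommRing A] [CommRing B] {X Y : Scheme.{u}}
    [X.Over (Spec (CommRingCat.of A))] [Y.Over (Spec (CommRingCat.of B))] {φ : A →+* B} {q : Y ⟶ X}
    (hq : q ≫ (X ↘ Spec (CommRingCat.of A)) = (Y ↘ Spec (CommRingCat.of B)) ≫ Spec.map (CommRingCat.ofHom φ))
    {I : Ideal A} {G : ℕᵒᵖ ⥤ X.Modules} (hG : Formal.IsCohFormal I G) :
    Formal.IsCohFormal (I.map φ) (G ⋙ Scheme.Modules.pullback q) := by
  let P := Scheme.Modules.pullback q
  let adj := Scheme.Modules.pullbackPushforwardAdjunction q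
  have hk : ∀ n, Formal.KilledBy ((I.map φ) ^ (n + 1)) (P.obj (G.obj (op n))) := fun n => by
    rw [← Ideal.map_pow]; exact W7Exist.killedBy_pull hq (hG.2.1 n)
  refine ⟨fun n => QC.isCoh_pullback q (hG.1 n), hk, fun n => ?_⟩
  let t := P.map (W7Exist.tn G n)
  have h : Formal.smulFamily ((I.map φ) ^ (n + 1)) (P.obj (G.obj (op (n + 1)))) ≫ t = 0 :=
    Sigma.hom_ext _ _ fun a => by
      rw [comp_zero, ← Category.assoc, show Sigma.ι (fun _ : ↥((I.map φ) ^ (n + 1)) => P.obj (G.obj (op (n + 1)))) a ≫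
        Formal.smulFamily ((I.map φ) ^ (n + 1)) _ = Formal.smulMod B _ (a : B) from Sigma.ι_desc _ a,
        W7Cech.smulMod_natural, hk n a a.2, comp_zero]
  refine ⟨h, ?_⟩
  let z := cokernel.π (Formal.smulFamily ((I.map φ) ^ (n + 1)) (P.obj (G.obj (op (n + 1)))))
  let Q := cokernel (Formal.smulFamily ((I.map φ) ^ (n + 1)) (P.obj (G.obj (op (n + 1)))))
  obtain ⟨w, hw⟩ := W7Exist.exists_desc hG n (adj.homEquiv _ _ z) fun a ha => by
    rw [← adj.homEquiv_naturality_left, W7Exist.pull_smulMod hq]
    refine (congrArg (adj.homEquiv _ _) ?_).trans (adj.homAddEquiv_zero _ _)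
    exact W7Exist.smulMod_π (I.map φ) (n + 1) _ _ (by rw [← Ideal.map_pow]; exact Ideal.mem_map_of_mem φ ha)
  have hw' : t ≫ (adj.homEquiv _ _).symm w = z := by
    rw [← adj.homEquiv_naturality_left_symm, hw, Equiv.symm_apply_apply]
  haveI := W7Exist.epi_tn hG n
  haveI : P.IsLeftAdjoint := adj.isLeftAdjoint
  haveI : Epi t := inferInstance
  refine ⟨(adj.homEquiv _ _).symm w, ?_, ?_⟩
  · refine (cancel_epi z).1 ?_
    refine (Category.assoc _ _ _).symm.trans ?_
    exact ((congrArg (· ≫ (adj.homEquiv _ _).symm w) (cokernel.π_desc _ _ _)).trans hw').trans (Category.comp_id _).symm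
  · refine (cancel_epi t).1 ?_
    refine (Category.assoc _ _ _).symm.trans ?_
    exact ((congrArg (· ≫ cokernel.desc _ _ h) hw').trans (cokernel.π_desc _ _ _)).trans (Category.comp_id _).symm


/-- The system of sections is the system of direct images. -/
theorem nonempty_sectSys_iso {A : Type u} [CommRing A] (U : (Spec (CommRingCat.of A)).Opens)
    [QuasiCompact U.ι] {G : ℕᵒᵖ ⥤ (U : Scheme.{u}).Modules} (hG : ∀ n, Coh.IsQCoh (G.obj (op n))) :
    Nonempty (Algz.sectSys A U G ≅ G ⋙ Scheme.Modules.pushforward U.ι) := by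
  let P := Scheme.Modules.pushforward U.ι
  refine ⟨NatIso.ofComponents (fun n =>
    haveI : (G.obj n).IsQuasicoherent := hG n.unop
    haveI : (P.obj (G.obj n)).IsQuasicoherent := QC.isQCoh_pushforward U.ι
    haveI : IsIso (Scheme.Modules.fromTildeΓ (R := CommRingCat.of A) (P.obj (G.obj n))) :=
      Scheme.Modules.isIso_fromTildeΓ_of_isQuasicoherent (R := CommRingCat.of A) _
    asIso (Scheme.Modules.fromTildeΓ (R := CommRingCat.of A) (P.obj (G.obj n)))) fun {i j} f => ?_⟩
  exact (tilde.adjunction (R := CommRingCat.of A)).counit.naturality (P.map (G.map f))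

/-- Flat base change of a canonical extension. -/
theorem canonicallyExtends_flat {A A' : Type u} [CommRing A] [IsNoetherianRing A] [CommRing A'] [Algebra A A']
    [Module.Flat A A'] {I : Ideal A} (U : (Spec (CommRingCat.of A)).Opens)
    {G : ℕᵒᵖ ⥤ (U : Scheme.{u}).Modules} (hG : ∀ n, Coh.IsQCoh (G.obj (op n)))
    (h : Algz.CanonicallyExtends A I U G) :
    Algz.CanonicallyExtends A' (I.map (algebraMap A A'))
      (Spec.map (CommRingCat.ofHom (algebraMap A A')) ⁻¹ᵁ U)
      (G ⋙ Scheme.Modules.pullback (morphismRestrict (Spec.map (CommRingCat.ofHom (algebraMap A A'))) U)) := by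
  let g := Spec.map (CommRingCat.ofHom (algebraMap A A'))
  haveI : Flat g := by
    rw [HasRingHomProperty.Spec_iff (P := @Flat)]
    exact RingHom.flat_algebraMap_iff.2 inferInstance
  have sq := isPullback_morphismRestrict g U
  haveI : NoetherianSpace (U : Scheme.{u}) := U.ι.isOpenEmbedding.isInducing.noetherianSpace
  haveI : QuasiCompact U.ι := quasiCompact_of_noetherianSpace_source _
  haveI : QuasiSeparated U.ι := inferInstance
  haveI : QuasiCompact (g ⁻¹ᵁ U).ι := MorphismProperty.of_isPullback sq inferInstance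
  letI := selfOver A
  letI := selfOver A'
  obtain ⟨C, hC, hp⟩ := h
  refine ⟨C ⋙ Scheme.Modules.pullback g,
    isCohFormal_pull' (φ := algebraMap A A') (q := g) ((Category.comp_id _).trans (Category.id_comp _).symm) hC, ?_⟩
  obtain ⟨e₁⟩ := nonempty_sectSys_iso U hG
  obtain ⟨e₂⟩ := nonempty_sectSys_iso (g ⁻¹ᵁ U) (G := G ⋙ Scheme.Modules.pullback (g ∣_ U))
    fun n => QC.isQCoh_pullback (g ∣_ U) (hG n)
  let β : (G ⋙ Scheme.Modules.pushforward U.ι) ⋙ Scheme.Modules.pullback g ⟶
      (G ⋙ Scheme.Modules.pullback (g ∣_ U)) ⋙ Scheme.Modules.pushforward (g ⁻¹ᵁ U).ι :=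
    { app := fun n => (Scheme.Modules.pullback g).map ((Scheme.Modules.pushforward U.ι).map
          ((Scheme.Modules.pullbackPushforwardAdjunction (g ∣_ U)).unit.app (G.obj n))) ≫
        (Scheme.Modules.pullback g).map ((Scheme.Modules.pushforwardComp (g ∣_ U) U.ι ≪≫
          Scheme.Modules.pushforwardCongr sq.w ≪≫ (Scheme.Modules.pushforwardComp (g ⁻¹ᵁ U).ι g).symm).hom.app
            ((Scheme.Modules.pullback (g ∣_ U)).obj (G.obj n))) ≫
        (Scheme.Modules.pullbackPushforwardAdjunction g).counit.app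
          ((Scheme.Modules.pushforward (g ⁻¹ᵁ U).ι).obj ((Scheme.Modules.pullback (g ∣_ U)).obj (G.obj n)))
      naturality := fun {i j} f => by
        let η₁ := Functor.whiskerRight (Functor.whiskerRight (Scheme.Modules.pullbackPushforwardAdjunction (g ∣_ U)).unit
          (Scheme.Modules.pushforward U.ι)) (Scheme.Modules.pullback g)
        let η₂ := Functor.whiskerRight (Functor.whiskerLeft (Scheme.Modules.pullback (g ∣_ U))
          (Scheme.Modules.pushforwardComp (g ∣_ U) U.ι ≪≫ Scheme.Modules.pushforwardCongr sq.w ≪≫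
            (Scheme.Modules.pushforwardComp (g ⁻¹ᵁ U).ι g).symm).hom) (Scheme.Modules.pullback g)
        let η₃ := Functor.whiskerLeft (Scheme.Modules.pullback (g ∣_ U) ⋙ Scheme.Modules.pushforward (g ⁻¹ᵁ U).ι)
          (Scheme.Modules.pullbackPushforwardAdjunction g).counit
        exact (η₁ ≫ η₂ ≫ η₃).naturality (G.map f) }
  haveI : ∀ n, IsIso (β.app n) := fun n =>
    haveI : Coh.IsQCoh (G.obj n) := hG n.unop
    S11133.result U.ι g (g ∣_ U) (g ⁻¹ᵁ U).ι sq (G.obj n)
  haveI := NatIso.isIso_of_isIso_app β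
  exact isProIsomorphic_of_iso (e₂ ≪≫ (asIso β).symm ≪≫ Functor.isoWhiskerRight e₁.symm _) (Iso.refl _)
    (isProIsomorphic_map hp (Scheme.Modules.pullback g))

end Groth.Agent.AlgzSys
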