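import Groth.Agent.AlgzSys.BaseChange
import Groth.Agent.AlgzSys.Affine
import Groth.Agent.W7Exist.EasyRight
import Groth.Agent.W7Exist.IPow
import Groth.Agent.W7Exist.Tricky

/-!
Extendability and maps with kernel and cokernel killed by a power of the ideal.
-/

set_option autoImplicit false
set_option maxHeartbeats 1000000
set_option linter.style.haveILetI false
set_option backward.isDefEq.respectTransparency false
set_option backward.isDefEq.respectTransparency.types false

universe u

open CategoryTheory CategoryTheory.Limits AlgebraicGeometry TopologicalSpace Opposite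
open Groth.Agent.QC (res)

noncomputable section

namespace Groth.Agent.AlgzSys

lemma killedBy_of_iso {A : Type u} [CommRing A] {X : Scheme.{u}} [X.Over (Spec (CommRingCat.of A))] {J : Ideal A}
    {M N : X.Modules} (e : M ≅ N) (h : Formal.KilledBy J M) : Formal.KilledBy J N := fun a ha => by
  rw [← cancel_epi e.hom, ← W7Cech.smulMod_natural, h a ha, zero_comp, comp_zero]

variable {A : Type u} [CommRing A] [IsNoetherianRing A] {I : Ideal A} (U : (Spec (CommRingCat.of A)).Opens)

local notation "B" => AdicCompletion I A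
local notation "I'" => Ideal.map (algebraMap A (AdicCompletion I A)) I
local notation "g" => Spec.map (CommRingCat.ofHom (algebraMap A (AdicCompletion I A)))

lemma hq_restrict :
    (g ∣_ U) ≫ ((↑U : Scheme.{u}) ↘ Spec (CommRingCat.of A)) =
      ((↑(g ⁻¹ᵁ U) : Scheme.{u}) ↘ Spec (CommRingCat.of B)) ≫ g :=
  (sq_restrict U).w

lemma isAdicComplete_completion : IsAdicComplete (I') B :=
  haveI : IsAdicComplete I B := AdicCompletion.isAdicComplete (IsNoetherian.noetherian I)
  (IsAdicComplete.map_algebraMap_iff _ _).2 inferInstance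

/-- Extendability in terms of completions over the completed base. -/
theorem extends_iff_completion {G : ℕᵒᵖ ⥤ (U : Scheme.{u}).Modules} (hG : Formal.IsCohFormal I G) :
    @Algz.Extends A _ (Spec (CommRingCat.of A)) (selfOver A) I U G ↔
      ∃ F : (↑(g ⁻¹ᵁ U) : Scheme.{u}).Modules, Coh.IsCoh F ∧
        Nonempty (Formal.completion (I') F ≅ G ⋙ Scheme.Modules.pullback (g ∣_ U)) := by
  letI := selfOver B
  haveI : IsNoetherianRing B := ResExt.isNoetherianRing_adicCompletion I (IsNoetherian.noetherian I)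
  haveI := isAdicComplete_completion (I := I) (A := A)
  refine (extends_iff_pull U hG).trans ⟨fun h => exists_completion_iso _ h exists_algebraization_affine, ?_⟩
  rintro ⟨F, hF, ⟨e⟩⟩
  exact extends_of_completion _ hF e

variable {G G' : ℕᵒᵖ ⥤ (U : Scheme.{u}).Modules}

/-- Kernels and cokernels killed by a power stay so after pullback to the completion. -/
theorem killed_pull (hG : Formal.IsCohFormal I G) (hG' : Formal.IsCohFormal I G') (α : G ⟶ G') (c n : ℕ)
    (hk : Formal.KilledBy (I ^ c) (kernel (α.app (op n)))) (hc : Formal.KilledBy (I ^ c) (cokernel (α.app (op n)))) :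
    Formal.KilledBy ((I') ^ c) (kernel ((Scheme.Modules.pullback (g ∣_ U)).map (α.app (op n)))) ∧
      Formal.KilledBy ((I') ^ c) (cokernel ((Scheme.Modules.pullback (g ∣_ U)).map (α.app (op n)))) := by
  let f := g ∣_ U
  let P := Scheme.Modules.pullback f
  let Q := Scheme.Modules.pushforward f
  let adj := Scheme.Modules.pullbackPushforwardAdjunction f
  haveI : P.IsLeftAdjoint := adj.isLeftAdjoint
  haveI : Q.IsRightAdjoint := adj.isRightAdjoint
  haveI := W7Exist.isIso_unit_of_killedBy I (sq_restrict U) (n + 1) (hG.1 n).1 (hG.2.1 n)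
  haveI := W7Exist.isIso_unit_of_killedBy I (sq_restrict U) (n + 1) (hG'.1 n).1 (hG'.2.1 n)
  constructor
  · let K := kernel (P.map (α.app (op n)))
    have hKq : Coh.IsQCoh K := QC.isQCoh_kernel (QC.isQCoh_pullback f (hG.1 n).1) (QC.isQCoh_pullback f (hG'.1 n).1) _
    have e : Q.obj K ≅ kernel (α.app (op n)) :=
      PreservesKernel.iso Q _ ≪≫
        (kernel.mapIso (α.app (op n)) (Q.map (P.map (α.app (op n))))
          (asIso (adj.unit.app (G.obj (op n)))) (asIso (adj.unit.app (G'.obj (op n))))
          (adj.unit.naturality (α.app (op n)))).symm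
    have hQK : Formal.KilledBy (I ^ c) (Q.obj K) := killedBy_of_iso e.symm hk
    intro b hb
    have h0 : ∀ a ∈ I ^ c, Formal.smulMod B K (algebraMap A B a) = 0 := by
      intro a ha
      have hQ : Q.map (Formal.smulMod B K (algebraMap A B a)) = 0 :=
        (W7Exist.push_smulMod (hq := hq_restrict U) K a).trans (hQK a ha)
      haveI : IsAffineHom f := W7Cech.isAffineHom_bc A (AdicCompletion I A) f (sq_restrict U)
      refine W7Exist.hom_eq_zero_of_cover (fun V : (↑U : Scheme.{u}).affineOpens => f ⁻¹ᵁ V.1)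
        (fun V => V.2.preimage f) (fun x => ?_) hKq _ fun V s => congr(($hQ).app V.1 s)
      obtain ⟨V, hV, hxV, -⟩ := exists_isAffineOpen_mem_and_subset (x := f.base x) (U := ⊤) trivial
      exact ⟨⟨V, hV⟩, hxV⟩
    have := W7Exist.smul_comp_of_map (φ := algebraMap A B) (J := I ^ c) (𝟙 K)
      (fun a ha => by rw [Category.comp_id]; exact h0 a ha) b (by rwa [Ideal.map_pow])
    rwa [Category.comp_id] at this
  · refine killedBy_of_iso (PreservesCokernel.iso P (α.app (op n))) ?_
    rw [← Ideal.map_pow]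
    exact W7Exist.killedBy_pull (hq := hq_restrict U) hc

/-- Extendability is invariant under maps with kernel and cokernel killed by a power. -/
theorem extends_iff_of_kerCoker (hG : Formal.IsCohFormal I G) (hG' : Formal.IsCohFormal I G') (α : G ⟶ G')
    (hα : Formal2.KerCokerKilledByIPow I α) :
    @Algz.Extends A _ (Spec (CommRingCat.of A)) (selfOver A) I U G ↔
      @Algz.Extends A _ (Spec (CommRingCat.of A)) (selfOver A) I U G' := by
  haveI : IsNoetherianRing B := ResExt.isNoetherianRing_adicCompletion I (IsNoetherian.noetherian I)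
  haveI : IsLocallyNoetherian (↑(g ⁻¹ᵁ U) : Scheme.{u}) := isLocallyNoetherian_of_isOpenImmersion (g ⁻¹ᵁ U).ι
  haveI : NoetherianSpace (↑(g ⁻¹ᵁ U) : Scheme.{u}) :=
    (g ⁻¹ᵁ U).ι.isOpenEmbedding.isInducing.noetherianSpace
  haveI : IsNoetherian (↑(g ⁻¹ᵁ U) : Scheme.{u}) := {}
  rw [extends_iff_completion U hG, extends_iff_completion U hG']
  let P := Scheme.Modules.pullback (g ∣_ U)
  have hP : ∀ {H : ℕᵒᵖ ⥤ (U : Scheme.{u}).Modules}, Formal.IsCohFormal I H → Formal.IsCohFormal (I') (H ⋙ P) :=
    fun hH => W7Exist.isCohFormal_pull (hq := hq_restrict U) (I := I) hH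
  obtain ⟨t, ht⟩ := hα
  have hkc := fun n => killed_pull U hG hG' α (t + 1) n (ht n).1 (ht n).2
  constructor
  · rintro ⟨F, hF, ⟨e⟩⟩
    obtain ⟨M, a, e', hM, -, -⟩ := W7Exist.exists_of_kerCoker_right (I') hF (hP hG')
      (e.hom ≫ Functor.whiskerRight α P) (t + 1)
      (fun n => killedBy_of_iso (kernelIsIsoComp (e.hom.app (op n)) (P.map (α.app (op n)))).symm (hkc n).1)
      (fun n => killedBy_of_iso (cokernelEpiComp (e.hom.app (op n)) (P.map (α.app (op n)))).symm (hkc n).2)
    exact ⟨M, hM, ⟨e'⟩⟩
  · rintro ⟨F, hF, ⟨e⟩⟩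
    obtain ⟨M, a, e', hM, -⟩ := W7Exist.exists_of_kerCoker (I') (W7Exist.iSheaf (I')) (W7Exist.kAlg_iSheaf (I'))
      (hP hG) hF (Functor.whiskerRight α P ≫ e.inv) (t + 1)
      (fun n => (W7Exist.killedByIdeal_iSheaf (I')).2
        (killedBy_of_iso (kernelCompMono (P.map (α.app (op n))) (e.inv.app (op n))).symm (hkc n).1))
      (fun n => (W7Exist.killedByIdeal_iSheaf (I')).2
        (killedBy_of_iso (cokernelCompIsIso (P.map (α.app (op n))) (e.inv.app (op n))).symm (hkc n).2))
    exact ⟨M, hM, ⟨e'⟩⟩

end Groth.Agent.AlgzSys
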