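import Groth.Agent.AlgzSys.Open

/-!
Limits of pro-isomorphic systems of modules.
-/

set_option autoImplicit false
set_option maxHeartbeats 1000000
set_option linter.style.haveILetI false
set_option backward.isDefEq.respectTransparency false
set_option backward.isDefEq.respectTransparency.types false

universe u

open CategoryTheory CategoryTheory.Limits AlgebraicGeometry Opposite
open ARSys (tr)

noncomputable section

namespace Groth.Agent.AlgzSys

variable {A : Type u} [CommRing A]

lemma tr_apply (X : ARSys.PS (ModuleCat.{u} A)) {a b c : ℕ} (h : a ≤ b) (h' : b ≤ c) (x : X.obj (op c)) :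
    (tr X h).hom ((tr X h').hom x) = (tr X (h.trans h')).hom x :=
  congr(($(tr_tr X h h')).hom x)

/-- The limit of a system of modules, by compatible families. -/
theorem existsUnique_limit (X : ARSys.PS (ModuleCat.{u} A)) (y : ∀ n, X.obj (op n))
    (hy : ∀ n k (h : n ≤ k), (tr X h).hom (y k) = y n) :
    ∃! x : (limit X : ModuleCat.{u} A), ∀ n, (limit.π X (op n)).hom x = y n := by
  have hs : (fun j : ℕᵒᵖ => (show (X ⋙ forget (ModuleCat.{u} A)).obj j from y j.unop)) ∈
      (X ⋙ forget (ModuleCat.{u} A)).sections := fun {i j} f => hy j.unop i.unop (leOfHom f.unop)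
  obtain ⟨x, hx, hu⟩ := (Types.isLimit_iff _).1
    ⟨isLimitOfPreserves (forget (ModuleCat.{u} A)) (limit.isLimit X)⟩ _ hs
  exact ⟨x, fun n => hx (op n), fun z hz => hu z fun j => hz j.unop⟩

lemma π_tr (X : ARSys.PS (ModuleCat.{u} A)) {n k : ℕ} (h : n ≤ k) (x : (limit X : ModuleCat.{u} A)) :
    (tr X h).hom ((limit.π X (op k)).hom x) = (limit.π X (op n)).hom x :=
  congr(($(limit.w X (homOfLE h).op)).hom x)

/-- The limit of a system is the limit of any system pro-isomorphic to it. -/
theorem exists_isLimit_of_isProIsomorphic {X Y : ARSys.PS (ModuleCat.{u} A)} (h : Algz.IsProIsomorphic X Y) :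
    ∃ (m : ℕ → ℕ) (a : ∀ n, X.obj (op (m n)) ⟶ Y.obj (op n)),
      AdicLim.IsLimit (L := (limit X : ModuleCat.{u} A)) (fun n => (tr Y (Nat.le_succ n)).hom)
        (fun n => (a n).hom ∘ₗ (limit.π X (op (m n))).hom) := by
  obtain ⟨m, hm, hle, a, ha⟩ := h
  refine ⟨m, fun n => a.app (op n), ⟨fun n => LinearMap.ext fun x => ?_, fun x hx => ?_, fun y hy => ?_⟩⟩
  · show (tr Y (Nat.le_succ n)).hom ((a.app (op (n + 1))).hom ((limit.π X (op (m (n + 1)))).hom x)) =
      (a.app (op n)).hom ((limit.π X (op (m n))).hom x)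
    rw [← π_tr X (hm (Nat.le_succ n)) x]
    exact (congr(($(tr_nat a (Nat.le_succ n))).hom ((limit.π X (op (m (n + 1)))).hom x))).symm
  · obtain ⟨z, -, hu⟩ := existsUnique_limit X (fun n => 0) fun n k h => map_zero _
    refine (hu x fun n => ?_).trans (hu 0 fun n => map_zero _).symm
    obtain ⟨k, hk, b, h1, -⟩ := ha n
    rw [← π_tr X (hle n), ← π_tr X (hm hk)]
    have e : (tr X (hm hk)).hom ((limit.π X (op (m k))).hom x) =
        b.hom ((a.app (op k)).hom ((limit.π X (op (m k))).hom x)) :=
      (congr(($h1).hom ((limit.π X (op (m k))).hom x))).symm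
    rw [e, show (a.app (op k)).hom ((limit.π X (op (m k))).hom x) = 0 from hx k, map_zero, map_zero]
  · have hy' : ∀ n k (h : n ≤ k), (tr Y h).hom (y k) = y n := by
      intro n k h
      induction k, h using Nat.le_induction with
      | base => exact congr(($(Y.map_id (op n))).hom (y n))
      | succ k h ih => rw [← tr_apply Y h (Nat.le_succ k), show (tr Y (Nat.le_succ k)).hom (y (k + 1)) = y k from hy k, ih]
    choose k hk b h1 h2 using ha
    let z : ∀ n, X.obj (op n) := fun n => (tr X (hle n)).hom ((b n).hom (y (k n)))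
    have key : ∀ n K (hK : k n ≤ K), (b n).hom (y (k n)) =
        (tr X (hm ((hk n).trans hK))).hom ((b K).hom (y (k K))) := by
      intro n K hK
      have e : (tr Y (hK.trans (hk K))).hom (y (k K)) = y (k n) := hy' _ _ _
      rw [← e, ← tr_apply Y hK (hk K)]
      have e2 : (tr Y (hk K)).hom (y (k K)) = (a.app (op K)).hom ((b K).hom (y (k K))) :=
        (congr(($(h2 K)).hom (y (k K)))).symm
      rw [e2]
      generalize (b K).hom (y (k K)) = w
      have e3 : (tr Y hK).hom ((a.app (op K)).hom w) = (a.app (op (k n))).hom ((tr X (hm hK)).hom w) :=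
        (congr(($(tr_nat a hK)).hom w)).symm
      rw [e3]
      refine (congr(($(h1 n)).hom ((tr X (hm hK)).hom w))).trans ?_
      show (tr X (hm (hk n))).hom ((tr X (hm hK)).hom w) = _
      rw [tr_apply]
    have hz : ∀ n k' (h : n ≤ k'), (tr X h).hom (z k') = z n := by
      intro n n' h
      simp only [z]
      rw [key n (max (k n) (k n')) (le_max_left _ _), key n' (max (k n) (k n')) (le_max_right _ _),
        tr_apply, tr_apply, tr_apply]
    obtain ⟨x, hx, -⟩ := existsUnique_limit X z hz
    refine ⟨x, fun n => ?_⟩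
    show (a.app (op n)).hom ((limit.π X (op (m n))).hom x) = y n
    rw [hx]
    show (a.app (op n)).hom ((tr X (hle (m n))).hom ((b (m n)).hom (y (k (m n))))) = y n
    have e4 : (a.app (op n)).hom ((tr X (hle (m n))).hom ((b (m n)).hom (y (k (m n))))) =
        (tr Y (hle n)).hom ((a.app (op (m n))).hom ((b (m n)).hom (y (k (m n))))) :=
      congr(($(tr_nat a (hle n))).hom ((b (m n)).hom (y (k (m n)))))
    rw [e4]
    have e5 : (a.app (op (m n))).hom ((b (m n)).hom (y (k (m n)))) = (tr Y (hk (m n))).hom (y (k (m n))) :=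
      congr(($(h2 (m n))).hom (y (k (m n))))
    rw [e5, hy', hy']

/-- Sections as modules over the base ring, two ways. -/
theorem nonempty_secA_top_iso : letI := selfOver A
    Nonempty (W7Cech.secA A (⊤ : (Spec (CommRingCat.of A)).Opens) ≅ moduleSpecΓFunctor (R := CommRingCat.of A)) := by
  letI := selfOver A
  refine ⟨NatIso.ofComponents (fun M => (show ((W7Cech.secA A (⊤ : (Spec (CommRingCat.of A)).Opens)).obj M : Type u) ≃ₗ[A]
      ((moduleSpecΓFunctor (R := CommRingCat.of A)).obj M : Type u) from
    { toFun := fun s => s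
      invFun := fun s => s
      left_inv := fun _ => rfl
      right_inv := fun _ => rfl
      map_add' := fun _ _ => rfl
      map_smul' := fun r s => ?_ }).toModuleIso) fun f => rfl⟩
  rfl

variable [IsNoetherianRing A] {I : Ideal A} (U : (Spec (CommRingCat.of A)).Opens)

/-- The limit topology of a canonically extending system is the adic one. -/
theorem exists_ker_le {G : ℕᵒᵖ ⥤ (U : Scheme.{u}).Modules} (h : Algz.CanonicallyExtends A I U G) (k : ℕ) :
    ∃ n : ℕ, LinearMap.ker (limit.π (Algz.sectMod A U G) (op n)).hom ≤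
      I ^ k • (⊤ : Submodule A ↑(limit (Algz.sectMod A U G))) := by
  letI := selfOver A
  obtain ⟨G', hG', hp⟩ := h
  obtain ⟨e⟩ := nonempty_secA_top_iso (A := A)
  let Γ' := W7Cech.secA A (⊤ : (Spec (CommRingCat.of A)).Opens)
  have h1 := isProIsomorphic_of_iso
    ((Functor.rightUnitor _).symm ≪≫ Functor.isoWhiskerLeft (Algz.sectMod A U G)
      (tilde.toTildeΓNatIso (R := CommRingCat.of A) ≪≫ Functor.isoWhiskerLeft _ e.symm) ≪≫
      (Functor.associator _ _ _).symm)
    (Iso.refl _) (isProIsomorphic_map hp Γ')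
  obtain ⟨m, a, hlim⟩ := exists_isLimit_of_isProIsomorphic h1
  have hGq : Formal2.IsQCohFormal I G' := ⟨fun n => (hG'.1 n).1, hG'.2.1, hG'.2.2⟩
  have hker := hlim.ker_eq_of_fg I
    (fun n => FormLim.tsec_surjective hGq (isAffineOpen_top _) n)
    (fun n => FormLim.ker_tsec hGq (isAffineOpen_top _) n) (IsNoetherian.noetherian I) k
  refine ⟨m k, fun x hx => Submodule.smul_mono (Ideal.pow_le_pow_right (Nat.le_succ k)) le_rfl (hker.le ?_)⟩
  show (a k).hom ((limit.π (Algz.sectMod A U G) (op (m k))).hom x) = 0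
  rw [LinearMap.mem_ker.1 hx, map_zero]

end Groth.Agent.AlgzSys
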