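import Groth.Agent.AlgzSys.Pro
import Groth.Agent.W7Exist.Pull
import Groth.Agent.QC.Extend
import Groth.Agent.FormPunct.Model
import Groth.Agent.FormLim.Trunc

/-!
Extension of coherent formal modules from an open subscheme of an affine scheme.
-/

set_option autoImplicit false
set_option maxHeartbeats 1000000
set_option linter.style.haveILetI false
set_option backward.isDefEq.respectTransparency false
set_option backward.isDefEq.respectTransparency.types false

universe u

open CategoryTheory CategoryTheory.Limits AlgebraicGeometry TopologicalSpace Opposite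

noncomputable section

namespace Groth.Agent.AlgzSys

/-- Coherent formal modules are stable under isomorphism. -/
theorem isCohFormal_of_iso {A : Type u} [CommRing A] {X : Scheme.{u}} [X.Over (Spec (CommRingCat.of A))]
    {I : Ideal A} {F G : ℕᵒᵖ ⥤ X.Modules} (e : F ≅ G) (hF : Formal.IsCohFormal I F) : Formal.IsCohFormal I G := by
  have hc : ∀ n, Coh.IsCoh (G.obj (op n)) := fun n => ⟨QC.isQCoh_of_iso (e.app (op n)) (hF.1 n).1,
    QC.isFT_of_epi (e.hom.app (op n)) (hF.1 n).2⟩
  have hk : ∀ n, Formal.KilledBy (I ^ (n + 1)) (G.obj (op n)) := fun n a ha => by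
    rw [← cancel_epi (e.hom.app (op n)), ← W7Cech.smulMod_natural, hF.2.1 n a ha, zero_comp, comp_zero]
  refine ⟨hc, hk, fun n => ?_⟩
  let t := G.map (homOfLE (Nat.le_succ n)).op
  have h : Formal.smulFamily (I ^ (n + 1)) (G.obj (op (n + 1))) ≫ t = 0 := Sigma.hom_ext _ _ fun a => by
    rw [comp_zero, ← Category.assoc, show Sigma.ι (fun _ : ↥(I ^ (n + 1)) => G.obj (op (n + 1))) a ≫
      Formal.smulFamily (I ^ (n + 1)) _ = Formal.smulMod A _ (a : A) from Sigma.ι_desc _ a,
      W7Cech.smulMod_natural, hk n a a.2, comp_zero]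
  refine ⟨h, ?_⟩
  let z := cokernel.π (Formal.smulFamily (I ^ (n + 1)) (G.obj (op (n + 1))))
  obtain ⟨w, hw⟩ := W7Exist.exists_desc hF n (e.hom.app (op (n + 1)) ≫ z) fun a ha => by
    rw [← Category.assoc, W7Cech.smulMod_natural, Category.assoc]
    have := W7Exist.smulMod_π I (n + 1) (G.obj (op (n + 1))) a ha
    rw [show Formal.smulMod A (G.obj (op (n + 1))) a ≫ z = 0 from this, comp_zero]
  have hnat : W7Exist.tn F n ≫ e.hom.app (op n) = e.hom.app (op (n + 1)) ≫ t := e.hom.naturality _
  haveI : Epi t := by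
    haveI := W7Exist.epi_tn hF n
    have e1 : t = e.inv.app (op (n + 1)) ≫ W7Exist.tn F n ≫ e.hom.app (op n) := by
      rw [hnat, Iso.inv_hom_id_app_assoc]
    rw [e1]
    infer_instance
  have hw' : t ≫ e.inv.app (op n) ≫ w = z := by
    rw [← cancel_epi (e.hom.app (op (n + 1))), ← Category.assoc, ← hnat, Category.assoc, Iso.hom_inv_id_app_assoc, hw]
  refine ⟨e.inv.app (op n) ≫ w, ?_, ?_⟩
  · rw [← cancel_epi z, ← Category.assoc, cokernel.π_desc, hw', Category.comp_id]
  · rw [← cancel_epi t, ← Category.assoc, hw', cokernel.π_desc, Category.comp_id]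

variable {A : Type u} [CommRing A] [IsNoetherianRing A] {I : Ideal A} (U : (Spec (CommRingCat.of A)).Opens)

/-- The structure of `Spec A` over itself. -/
abbrev selfOver (A : Type u) [CommRing A] : (Spec (CommRingCat.of A)).Over (Spec (CommRingCat.of A)) :=
  ⟨𝟙 _⟩

lemma hq_ι : letI := selfOver A
    U.ι ≫ (Spec (CommRingCat.of A) ↘ Spec (CommRingCat.of A)) =
      ((U : Scheme.{u}) ↘ Spec (CommRingCat.of A)) ≫ Spec.map (CommRingCat.ofHom (RingHom.id A)) := by
  rw [CommRingCat.ofHom_id, Spec.map_id, Category.comp_id]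
  rfl

/-- Restriction of a coherent formal module to an open. -/
theorem isCohFormal_restrict {G : ℕᵒᵖ ⥤ (Spec (CommRingCat.of A)).Modules}
    (hG : @Formal.IsCohFormal A _ _ (selfOver A) I G) : Formal.IsCohFormal I (Algz.restrictSys U G) := by
  letI := selfOver A
  haveI : IsLocallyNoetherian (U : Scheme.{u}) := isLocallyNoetherian_of_isOpenImmersion U.ι
  have h := W7Exist.isCohFormal_pull (hq := hq_ι U) (I := I) hG
  rw [Ideal.map_id] at h
  exact isCohFormal_of_iso (Functor.isoWhiskerLeft G (Scheme.Modules.restrictFunctorIsoPullback U.ι).symm) h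

/-- Completion commutes with restriction to an open. -/
theorem nonempty_completion_restrict (M : (Spec (CommRingCat.of A)).Modules) :
    Nonempty (Formal.completion I ((Scheme.Modules.pullback U.ι).obj M) ≅
      Algz.restrictSys U (@Formal.completion A _ _ (selfOver A) I M)) := by
  letI := selfOver A
  obtain ⟨e, -⟩ := W7Exist.exists_pullCompletion (hq := hq_ι U) (I := I) M
  rw [Ideal.map_id] at e
  exact ⟨e ≪≫ Functor.isoWhiskerLeft _ (Scheme.Modules.restrictFunctorIsoPullback U.ι).symm⟩

/-- The completion of a coherent module extends. -/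
theorem extends_of_completion {G : ℕᵒᵖ ⥤ (U : Scheme.{u}).Modules} {F : (U : Scheme.{u}).Modules}
    (hF : Coh.IsCoh F) (e : Formal.completion I F ≅ G) :
    @Algz.Extends A _ (Spec (CommRingCat.of A)) (selfOver A) I U G := by
  letI := selfOver A
  haveI : F.IsQuasicoherent := hF.1
  let P := (Scheme.Modules.pushforward U.ι).obj F
  haveI : P.IsQuasicoherent := QC.isQCoh_pushforward U.ι
  let c : P.restrict U.ι ≅ F := (Scheme.Modules.restrictFunctorAdjCounitIso U.ι).app F
  haveI : (P.restrict U.ι).IsQuasicoherent := QC.isQCoh_restrict U.ι (by assumption)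
  obtain ⟨M, i, eM, -, hMq, hMft, -⟩ := QC.exists_ft_extension (F := P)
    (fun x => ⟨⊤, trivial, inferInstance⟩) U (P.restrict U.ι) (𝟙 _) (QC.isFT_of_epi c.inv hF.2)
  obtain ⟨ec⟩ := nonempty_completion_restrict (I := I) U M
  refine ⟨Formal.completion I M, W7Exist.isCohFormal_completion I ⟨hMq, hMft⟩, ⟨ec.symm ≪≫ ?_ ≪≫ e⟩⟩
  let d : (Scheme.Modules.pullback U.ι).obj M ≅ F :=
    ((Scheme.Modules.restrictFunctorIsoPullback U.ι).app M).symm ≪≫ eM ≪≫ c
  exact
    { hom := W7Exist.cMap I d.hom
      inv := W7Exist.cMap I d.inv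
      hom_inv_id := by
        refine NatTrans.ext (funext fun ⟨n⟩ => ?_)
        haveI : Epi (Formal.modPowπ I (n + 1) ((Scheme.Modules.pullback U.ι).obj M)) := by
          unfold Formal.modPowπ; infer_instance
        rw [← cancel_epi (Formal.modPowπ I (n + 1) ((Scheme.Modules.pullback U.ι).obj M))]
        show _ ≫ W7Exist.modMap I (n + 1) d.hom ≫ W7Exist.modMap I (n + 1) d.inv = _
        rw [W7Exist.π_modMap_assoc, W7Exist.π_modMap, Iso.hom_inv_id_assoc]
        exact (Category.comp_id _).symm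
      inv_hom_id := by
        refine NatTrans.ext (funext fun ⟨n⟩ => ?_)
        haveI : Epi (Formal.modPowπ I (n + 1) F) := by unfold Formal.modPowπ; infer_instance
        rw [← cancel_epi (Formal.modPowπ I (n + 1) F)]
        show _ ≫ W7Exist.modMap I (n + 1) d.inv ≫ W7Exist.modMap I (n + 1) d.hom = _
        rw [W7Exist.π_modMap_assoc, W7Exist.π_modMap, Iso.inv_hom_id_assoc]
        exact (Category.comp_id _).symm }

/-- The restriction of the system of sections is the system. -/
theorem nonempty_restrict_sectSys {G : ℕᵒᵖ ⥤ (U : Scheme.{u}).Modules} (hG : ∀ n, Coh.IsQCoh (G.obj (op n))) :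
    Nonempty (Algz.restrictSys U (Algz.sectSys A U G) ≅ G) := by
  let R := Scheme.Modules.restrictFunctor U.ι
  let P := Scheme.Modules.pushforward U.ι
  refine ⟨NatIso.ofComponents (fun n =>
    haveI : (G.obj n).IsQuasicoherent := hG n.unop
    haveI : (P.obj (G.obj n)).IsQuasicoherent := QC.isQCoh_pushforward U.ι
    haveI : IsIso (Scheme.Modules.fromTildeΓ (R := CommRingCat.of A) (P.obj (G.obj n))) :=
      Scheme.Modules.isIso_fromTildeΓ_of_isQuasicoherent (R := CommRingCat.of A) _
    R.mapIso (asIso (Scheme.Modules.fromTildeΓ (R := CommRingCat.of A) (P.obj (G.obj n)))) ≪≫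
      (Scheme.Modules.restrictFunctorAdjCounitIso U.ι).app (G.obj n)) fun {i j} f => ?_⟩
  have h1 : R.map ((tilde.functor (CommRingCat.of A)).map ((moduleSpecΓFunctor (R := CommRingCat.of A)).map (P.map (G.map f)))) ≫
      R.map (Scheme.Modules.fromTildeΓ (R := CommRingCat.of A) (P.obj (G.obj j))) =
      R.map (Scheme.Modules.fromTildeΓ (R := CommRingCat.of A) (P.obj (G.obj i))) ≫ R.map (P.map (G.map f)) := by
    rw [← R.map_comp, ← R.map_comp]
    exact congrArg _ ((tilde.adjunction (R := CommRingCat.of A)).counit.naturality (P.map (G.map f)))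
  have h2 := (Scheme.Modules.restrictFunctorAdjCounitIso U.ι).hom.naturality (G.map f)
  show R.map ((tilde.functor (CommRingCat.of A)).map ((moduleSpecΓFunctor (R := CommRingCat.of A)).map (P.map (G.map f)))) ≫
    R.map (Scheme.Modules.fromTildeΓ (R := CommRingCat.of A) (P.obj (G.obj j))) ≫
      (Scheme.Modules.restrictFunctorAdjCounitIso U.ι).hom.app (G.obj j) =
    (R.map (Scheme.Modules.fromTildeΓ (R := CommRingCat.of A) (P.obj (G.obj i))) ≫
      (Scheme.Modules.restrictFunctorAdjCounitIso U.ι).hom.app (G.obj i)) ≫ G.map f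
  rw [← Category.assoc, h1, Category.assoc, Category.assoc]
  exact congrArg (_ ≫ ·) h2

/-- A canonical extension gives an extension. -/
theorem extends_of_canonicallyExtends {G : ℕᵒᵖ ⥤ (U : Scheme.{u}).Modules} (hG : Formal.IsCohFormal I G)
    (h : Algz.CanonicallyExtends A I U G) :
    @Algz.Extends A _ (Spec (CommRingCat.of A)) (selfOver A) I U G := by
  obtain ⟨G', hG', hp⟩ := h
  obtain ⟨e⟩ := nonempty_restrict_sectSys U fun n => (hG.1 n).1
  have h1 := isProIsomorphic_of_iso e.symm (Iso.refl _)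
    (isProIsomorphic_map hp (Scheme.Modules.restrictFunctor U.ι))
  obtain ⟨e'⟩ := nonempty_iso hG (isCohFormal_restrict U hG') h1
  exact ⟨G', hG', ⟨e'.symm⟩⟩

/-- The sections of a canonically extending system are Mittag-Leffler. -/
theorem isML_sectMod {G : ℕᵒᵖ ⥤ (U : Scheme.{u}).Modules} (h : Algz.CanonicallyExtends A I U G) :
    ARSys.IsML (Algz.sectMod A U G) := by
  letI := selfOver A
  obtain ⟨G', hG', hp⟩ := h
  let Γ' := moduleSpecΓFunctor (R := CommRingCat.of A)
  have h1 := isProIsomorphic_of_iso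
    ((Functor.rightUnitor _).symm ≪≫ Functor.isoWhiskerLeft (Algz.sectMod A U G)
      (tilde.toTildeΓNatIso (R := CommRingCat.of A)) ≪≫ (Functor.associator _ _ _).symm)
    (Iso.refl _) (isProIsomorphic_map hp Γ')
  refine isML_of_isProIsomorphic h1 fun {n k} hnk => (ModuleCat.epi_iff_surjective _).2 ?_
  exact W7Exist.app_trG_surjective hG' hnk (isAffineOpen_top (Spec (CommRingCat.of A)))

/-- An extending system over a complete ring is a completion. -/
theorem exists_completion_iso [IsAdicComplete I A] {G : ℕᵒᵖ ⥤ (U : Scheme.{u}).Modules}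
    (h : @Algz.Extends A _ (Spec (CommRingCat.of A)) (selfOver A) I U G)
    (halg : ∀ G' : ℕᵒᵖ ⥤ (Spec (CommRingCat.of A)).Modules, @Formal.IsCohFormal A _ _ (selfOver A) I G' →
      ∃ M, Coh.IsCoh M ∧ Nonempty (@Formal.completion A _ _ (selfOver A) I M ≅ G')) :
    ∃ F : (U : Scheme.{u}).Modules, Coh.IsCoh F ∧ Nonempty (Formal.completion I F ≅ G) := by
  obtain ⟨G', hG', ⟨e⟩⟩ := h
  obtain ⟨M, hM, ⟨eM⟩⟩ := halg G' hG'
  haveI : IsLocallyNoetherian (U : Scheme.{u}) := isLocallyNoetherian_of_isOpenImmersion U.ι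
  obtain ⟨ec⟩ := nonempty_completion_restrict (I := I) U M
  exact ⟨_, QC.isCoh_pullback U.ι hM,
    ⟨ec ≪≫ Functor.isoWhiskerRight eM (Scheme.Modules.restrictFunctor U.ι) ≪≫ e⟩⟩

end Groth.Agent.AlgzSys
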