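import Groth.Agent.W7Exist.Formal
import Groth.Prelude.Def_Algz

/-!
Pro-isomorphic inverse systems and coherent formal modules.
-/

set_option autoImplicit false
set_option linter.style.haveILetI false
set_option backward.isDefEq.respectTransparency false
set_option backward.isDefEq.respectTransparency.types false

universe v v' u u'

open CategoryTheory CategoryTheory.Limits Opposite

noncomputable section

namespace Groth.Agent.AlgzSys

section Gen

variable {C : Type u} [Category.{v} C] {D : Type u'} [Category.{v'} D]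

open ARSys (tr)

lemma tr_tr (X : ARSys.PS C) {a b c : ℕ} (h : a ≤ b) (h' : b ≤ c) : tr X h' ≫ tr X h = tr X (h.trans h') := by
  rw [← X.map_comp, ← op_comp, homOfLE_comp]

lemma tr_nat {X Y : ARSys.PS C} (a : X ⟶ Y) {n k : ℕ} (h : n ≤ k) :
    tr X h ≫ a.app (op n) = a.app (op k) ≫ tr Y h := a.naturality _

/-- Functors preserve pro-isomorphy. -/
theorem isProIsomorphic_map {X Y : ARSys.PS C} (h : Algz.IsProIsomorphic X Y) (F : C ⥤ D) :
    Algz.IsProIsomorphic (X ⋙ F) (Y ⋙ F) := by
  obtain ⟨m, hm, hle, a, ha⟩ := h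
  refine ⟨m, hm, hle, ({ app := fun n => F.map (a.app n), naturality := fun {i j} f => ?_ } :
    DerCA.reindex (X ⋙ F) hm ⟶ Y ⋙ F), fun n => ?_⟩
  · show F.map ((DerCA.reindex X hm).map f) ≫ F.map (a.app j) = F.map (a.app i) ≫ F.map (Y.map f)
    rw [← F.map_comp, ← F.map_comp, a.naturality f]
  · obtain ⟨k, hk, b, h1, h2⟩ := ha n
    exact ⟨k, hk, F.map b, (F.map_comp _ _).symm.trans (congrArg F.map h1),
      (F.map_comp _ _).symm.trans (congrArg F.map h2)⟩

/-- Pro-isomorphy is invariant under isomorphisms. -/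
theorem isProIsomorphic_of_iso {X X' Y Y' : ARSys.PS C} (e : X' ≅ X) (e' : Y ≅ Y')
    (h : Algz.IsProIsomorphic X Y) : Algz.IsProIsomorphic X' Y' := by
  obtain ⟨m, hm, hle, a, ha⟩ := h
  let w := Functor.whiskerLeft (Monotone.functor hm).op e.hom
  refine ⟨m, hm, hle, w ≫ a ≫ e'.hom, fun n => ?_⟩
  obtain ⟨k, hk, b, h1, h2⟩ := ha n
  refine ⟨k, hk, e'.inv.app (op k) ≫ b ≫ e.inv.app (op (m n)), ?_, ?_⟩
  · show (e.hom.app (op (m k)) ≫ a.app (op k) ≫ e'.hom.app (op k)) ≫ _ = (DerCA.reindex X' hm).map (homOfLE hk).op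
    rw [Category.assoc, Category.assoc, Iso.hom_inv_id_app_assoc, reassoc_of% h1]
    show e.hom.app (op (m k)) ≫ X.map _ ≫ e.inv.app (op (m n)) = X'.map _
    rw [e.inv.naturality, Iso.hom_inv_id_app_assoc]
  · show (e'.inv.app (op k) ≫ b ≫ e.inv.app (op (m n))) ≫ e.hom.app (op (m n)) ≫ a.app (op n) ≫ e'.hom.app (op n) = _
    simp only [Category.assoc, Iso.inv_hom_id_app_assoc]
    rw [reassoc_of% h2]
    show e'.inv.app (op k) ≫ Y.map _ ≫ e'.hom.app (op n) = _
    rw [e'.hom.naturality, Iso.inv_hom_id_app_assoc]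

/-- An image is not changed by precomposition with an epimorphism. -/
theorem imageSubobject_epi_comp [Abelian C] {X' X Y : C} (h : X' ⟶ X) [Epi h] (f : X ⟶ Y) :
    imageSubobject (h ≫ f) = imageSubobject f := by
  haveI : IsIso (Subobject.ofLE _ _ (imageSubobject_comp_le h f)) := isIso_of_mono_of_epi _
  exact le_antisymm (imageSubobject_comp_le h f)
    (Subobject.le_of_comm (inv (Subobject.ofLE _ _ (imageSubobject_comp_le h f))) (by simp))

/-- A system pro-isomorphic to one with epimorphic transition maps is Mittag-Leffler. -/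
theorem isML_of_isProIsomorphic [Abelian C] {X Y : ARSys.PS C} (h : Algz.IsProIsomorphic X Y)
    (hY : ∀ {n k : ℕ} (hnk : n ≤ k), Epi (tr Y hnk)) : ARSys.IsML X := by
  obtain ⟨m, hm, hle, a, ha⟩ := h
  intro n
  obtain ⟨k, hk, b, h1, h2⟩ := ha n
  let g : Y.obj (op k) ⟶ X.obj (op n) := b ≫ tr X (hle n)
  have key : ∀ s, (hs : n + m k ≤ n + s) → imageSubobject (ARSys.shiftMap X s n) = imageSubobject g := by
    intro s hs
    apply le_antisymm
    · have e : ARSys.shiftMap X s n =
          tr X (show m k ≤ n + s by omega) ≫ a.app (op k) ≫ g := by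
        rw [reassoc_of% h1]
        show tr X _ = tr X _ ≫ tr X (hm hk) ≫ tr X (hle n)
        rw [tr_tr, tr_tr]
      rw [e]
      exact (imageSubobject_comp_le _ _).trans (imageSubobject_comp_le _ _)
    · obtain ⟨k', hk', b', h1', h2'⟩ := ha (n + s)
      have hks : k ≤ n + s := ((hle k).trans (Nat.le_add_left (m k) n)).trans hs
      haveI := hY (hks.trans hk')
      rw [← imageSubobject_epi_comp (tr Y (hks.trans hk')) g]
      have e : tr Y (hks.trans hk') ≫ g = (b' ≫ tr X (hle (n + s))) ≫ ARSys.shiftMap X s n := by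
        rw [← tr_tr Y hks hk', ← h2', Category.assoc, Category.assoc, ← reassoc_of% (tr_nat a hks), reassoc_of% h1,
          Category.assoc]
        refine congrArg (b' ≫ ·) ?_
        show tr X (hm hks) ≫ tr X (hm hk) ≫ tr X (hle n) = tr X (hle (n + s)) ≫ tr X (Nat.le_add_right n s)
        rw [tr_tr, tr_tr, tr_tr]
      rw [e]
      exact imageSubobject_comp_le _ _
  exact ⟨m k, fun s hs => (key s (Nat.add_le_add_left hs n)).trans (key (m k) le_rfl).symm⟩

end Gen

universe w

variable {A : Type w} [CommRing A] {X : AlgebraicGeometry.Scheme.{w}}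
  [X.Over (AlgebraicGeometry.Spec (CommRingCat.of A))] {I : Ideal A} {F G : ℕᵒᵖ ⥤ X.Modules}

open W7Exist (trG trG_comp trG_self epi_trG exists_desc_trG)

/-- A map out of a re-indexed coherent formal module comes from a unique map. -/
theorem existsUnique_hom (hF : Formal.IsCohFormal I F) (hG : Formal.IsCohFormal I G) {m : ℕ → ℕ} (hm : Monotone m)
    (hle : ∀ n, n ≤ m n) (π : DerCA.reindex F hm ⟶ F) (hπ : ∀ n, π.app (op n) = trG F (hle n))
    (α : DerCA.reindex F hm ⟶ G) : ∃! β : F ⟶ G, π ≫ β = α := by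
  choose β hβ using fun n => exists_desc_trG hF (hle n) (hG.2.1 n) (α.app (op n))
  have hn : ∀ n, (F.map (homOfLE (Nat.le_succ n)).op) ≫ β n = β (n + 1) ≫ G.map (homOfLE (Nat.le_succ n)).op := by
    intro n
    haveI := epi_trG hF (hle (n + 1))
    rw [← cancel_epi (trG F (hle (n + 1))), ← Category.assoc, ← Category.assoc, hβ, ← α.naturality,
      ← hβ n, ← Category.assoc]
    refine congrArg (· ≫ β n) ?_
    show trG F _ ≫ trG F (Nat.le_succ n) = trG F (hm (Nat.le_succ n)) ≫ trG F (hle n)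
    rw [trG_comp, trG_comp]
  refine ⟨NatTrans.ofOpSequence β hn, NatTrans.ext (funext fun ⟨n⟩ => ?_), fun γ hγ => ?_⟩
  · show π.app (op n) ≫ β n = α.app (op n)
    rw [hπ, hβ]
  · refine NatTrans.ext (funext fun ⟨n⟩ => ?_)
    haveI := epi_trG hF (hle n)
    rw [← cancel_epi (trG F (hle n))]
    show trG F (hle n) ≫ γ.app (op n) = trG F (hle n) ≫ β n
    rw [hβ, ← hπ]
    exact congr($(hγ).app (op n))

/-- Pro-isomorphic coherent formal modules are isomorphic. -/
theorem nonempty_iso (hF : Formal.IsCohFormal I F) (hG : Formal.IsCohFormal I G) (h : Algz.IsProIsomorphic F G) :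
    Nonempty (F ≅ G) := by
  obtain ⟨m, hm, hle, a, ha⟩ := h
  let π : DerCA.reindex F hm ⟶ F :=
    { app := fun n => trG F (hle n.unop)
      naturality := fun {i j} f => by
        show trG F (hm (leOfHom f.unop)) ≫ trG F (hle j.unop) = trG F (hle i.unop) ≫ F.map f
        rw [show F.map f = trG F (leOfHom f.unop) from rfl, trG_comp, trG_comp] }
  obtain ⟨β, hβ, -⟩ := existsUnique_hom hF hG hm hle π (fun n => rfl) a
  have hb : ∀ n, trG F (hle n) ≫ β.app (op n) = a.app (op n) := fun n => congr($(hβ).app (op n))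
  haveI : ∀ n, IsIso (β.app n) := fun ⟨n⟩ => by
    obtain ⟨k, hk, b, h1, h2⟩ := ha n
    obtain ⟨γ, hγ⟩ := exists_desc_trG hG hk (hF.2.1 n) (b ≫ trG F (hle n))
    haveI := epi_trG hG hk
    refine ⟨γ, ?_, ?_⟩
    · haveI := epi_trG hF (hk.trans (hle k))
      rw [← cancel_epi (trG F (hk.trans (hle k))), Category.comp_id, ← trG_comp F (hle k) hk, Category.assoc,
        show trG F hk ≫ β.app (op n) ≫ γ = (β.app (op k) ≫ trG G hk) ≫ γ from
          (Category.assoc _ _ _).symm.trans (congrArg (· ≫ γ) (β.naturality _)),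
        Category.assoc, hγ, reassoc_of% (hb k), reassoc_of% h1]
      show trG F (hm hk) ≫ trG F (hle n) = _
      rw [trG_comp, trG_comp]
    · rw [← cancel_epi (trG G hk), reassoc_of% hγ, hb n, h2, Category.comp_id]
  haveI := NatIso.isIso_of_isIso_app β
  exact ⟨asIso β⟩

end Groth.Agent.AlgzSys
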