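import Groth.Agent.AlgzSys.Build

/-!
The map from the limit of the sections to a formal module on an open.
-/

set_option autoImplicit false
set_option maxHeartbeats 1000000
set_option linter.style.haveILetI false
set_option backward.isDefEq.respectTransparency false
set_option backward.isDefEq.respectTransparency.types false

universe u

open CategoryTheory CategoryTheory.Limits AlgebraicGeometry Opposite
open ARSys (tr)
open Groth.Agent.PunctArt (RR)

noncomputable section

namespace Groth.Agent.AlgzSys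

variable {A : Type u} [CommRing A] [IsNoetherianRing A] {I : Ideal A} (U : (Spec (CommRingCat.of A)).Opens)
  {G : ℕᵒᵖ ⥤ (U : Scheme.{u}).Modules}

local notation "Rst" => Scheme.Modules.restrictFunctor (Scheme.Opens.ι U)

include U in
/-- The comparison of the restricted tilde of the sections with the module is an isomorphism. -/
lemma exists_sections_iso (hG : ∀ n, Coh.IsQCoh (G.obj (op n))) (n : ℕ) :
    IsIso (Scheme.Modules.fromTildeΓ (R := CommRingCat.of A) ((Scheme.Modules.pushforward U.ι).obj (G.obj (op n)))) := by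
  haveI : (G.obj (op n)).IsQuasicoherent := hG n
  haveI : ((Scheme.Modules.pushforward U.ι).obj (G.obj (op n))).IsQuasicoherent := QC.isQCoh_pushforward U.ι
  exact Scheme.Modules.isIso_fromTildeΓ_of_isQuasicoherent (R := CommRingCat.of A) _

lemma epi_RR_tr (hG : Formal.IsCohFormal I G) {n k : ℕ} (h : n ≤ k) :
    Epi ((RR U).map (tr (Algz.sectMod A U G) h)) := by
  obtain ⟨e⟩ := nonempty_restrict_sectSys U fun n => (hG.1 n).1
  have h1 : (Algz.restrictSys U (Algz.sectSys A U G)).map (homOfLE h).op =
      e.hom.app (op k) ≫ G.map (homOfLE h).op ≫ e.inv.app (op n) := by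
    rw [← Category.assoc, ← e.hom.naturality, Category.assoc, Iso.hom_inv_id_app, Category.comp_id]
  haveI := W7Exist.epi_trG hG h
  have h2 : Epi ((Algz.restrictSys U (Algz.sectSys A U G)).map (homOfLE h).op) := by
    rw [h1]
    haveI : Epi (G.map (homOfLE h).op) := W7Exist.epi_trG hG h
    infer_instance
  exact h2

/-- The map from the limit of the sections is an epimorphism. -/
theorem epi_adjunct (hG : Formal.IsCohFormal I G) (ha : ARSys.IsML (Algz.sectMod A U G)) (n : ℕ) :
    Epi (((Scheme.Modules.restrictAdjunction U.ι).homEquiv _ (G.obj (op n))).symm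
      (((tilde.adjunction (R := CommRingCat.of A)).homEquiv (limit (Algz.sectMod A U G))
        ((Scheme.Modules.pushforward U.ι).obj (G.obj (op n)))).symm (limit.π (Algz.sectMod A U G) (op n)))) := by
  let X := Algz.sectMod A U G
  obtain ⟨r, hr⟩ := exists_lift_limit ha n
  let t := tr X (Nat.le_add_right n r)
  let i : ModuleCat.of A (LinearMap.range t.hom) ⟶ X.obj (op n) := FormPunct.inc _
  haveI : Epi ((RR U).map t) := epi_RR_tr U hG (Nat.le_add_right n r)
  have hi : Epi ((RR U).map i) := by
    have e : (RR U).map (ModuleCat.ofHom t.hom.rangeRestrict) ≫ (RR U).map i = (RR U).map t :=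
      ((RR U).map_comp _ _).symm
    exact epi_of_epi_fac e
  let M' : Submodule A ↑(limit X) := LinearMap.range t.hom |>.comap (limit.π X (op n)).hom
  let p : ModuleCat.of A M' ⟶ ModuleCat.of A (LinearMap.range t.hom) :=
    ModuleCat.ofHom ((limit.π X (op n)).hom.restrict (p := M') (fun x hx => hx))
  haveI : Epi p := (ModuleCat.epi_iff_surjective _).2 fun y => by
    obtain ⟨z, hz⟩ := y.2
    obtain ⟨x, hx⟩ := hr z
    exact ⟨⟨x, ⟨z, hx.symm⟩⟩, Subtype.ext (hx.trans hz)⟩
  haveI : Epi ((RR U).map p) := Functor.map_epi _ p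
  haveI := hi
  have hπ : Epi ((RR U).map (limit.π X (op n))) := by
    have e : (RR U).map (FormPunct.inc M') ≫ (RR U).map (limit.π X (op n)) = (RR U).map p ≫ (RR U).map i := by
      rw [← Functor.map_comp, ← Functor.map_comp]
      rfl
    haveI : Epi ((RR U).map (FormPunct.inc M') ≫ (RR U).map (limit.π X (op n))) := by rw [e]; infer_instance
    exact epi_of_epi ((RR U).map (FormPunct.inc M')) _
  haveI : IsIso ((tilde.adjunction (R := CommRingCat.of A)).counit.app
      ((Scheme.Modules.pushforward U.ι).obj (G.obj (op n)))) := exists_sections_iso U (fun n => (hG.1 n).1) n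
  rw [Adjunction.homEquiv_counit, Adjunction.homEquiv_counit, Functor.map_comp, Category.assoc]
  haveI : IsIso ((Rst).map ((tilde.adjunction (R := CommRingCat.of A)).counit.app
      ((Scheme.Modules.pushforward U.ι).obj (G.obj (op n))))) := Functor.map_isIso _ _
  exact @epi_comp _ _ _ _ _ _ hπ _ inferInstance

/-- Coherence of the restricted quotients of the limit. -/
theorem isCoh_quot (hG : Formal.IsCohFormal I G)
    (hb : ∀ k : ℕ, ∃ n : ℕ, LinearMap.ker (limit.π (Algz.sectMod A U G) (op n)).hom ≤
      I ^ k • (⊤ : Submodule A ↑(limit (Algz.sectMod A U G)))) (n : ℕ) :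
    Coh.IsCoh ((Rst).obj (Formal2.tmod A (Formal2.quotPow A I ↑(limit (Algz.sectMod A U G)) n))) := by
  let X := Algz.sectMod A U G
  obtain ⟨N, hN⟩ := hb (n + 1)
  let p := (limit.π X (op N)).hom
  let R₁ : ModuleCat.{u} A := ModuleCat.of A (LinearMap.range p)
  let i : R₁ ⟶ X.obj (op N) := FormPunct.inc _
  let q : R₁ ⟶ ModuleCat.of A (Formal2.quotPow A I ↑(limit X) n) :=
    ModuleCat.ofHom ((Submodule.factor hN).comp p.quotKerEquivRange.symm.toLinearMap)
  haveI : Epi q := (ModuleCat.epi_iff_surjective _).2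
    ((Submodule.factor_surjective hN).comp p.quotKerEquivRange.symm.surjective)
  haveI : Mono i := (ModuleCat.mono_iff_injective _).2 Subtype.val_injective
  haveI : IsLocallyNoetherian (U : Scheme.{u}) := isLocallyNoetherian_of_isOpenImmersion U.ι
  have hq : ∀ M : ModuleCat.{u} A, Coh.IsQCoh ((RR U).obj M) := fun M =>
    QC.isQCoh_restrict U.ι (QC.isQCoh_tilde (R := CommRingCat.of A) M)
  obtain ⟨e⟩ := nonempty_restrict_sectSys U fun n => (hG.1 n).1
  have hN' : Coh.IsCoh ((RR U).obj (X.obj (op N))) :=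
    ⟨hq _, QC.isFT_of_epi (e.inv.app (op N)) (hG.1 N).2⟩
  haveI : Mono ((RR U).map i) := Functor.map_mono _ i
  haveI : Epi ((RR U).map q) := Functor.map_epi _ q
  exact QC.isCoh_of_epi (QC.isCoh_of_mono ((RR U).map i) hN' (hq _)) (hq _) ((RR U).map q)

omit [IsNoetherianRing A] in
/-- Vanishing of compatible sections whose images vanish. -/
theorem eq_zero_of_compatible [IsNoetherianRing A] (hG : ∀ n, Coh.IsQCoh (G.obj (op n)))
    (hb : ∀ k : ℕ, ∃ n : ℕ, LinearMap.ker (limit.π (Algz.sectMod A U G) (op n)).hom ≤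
      I ^ k • (⊤ : Submodule A ↑(limit (Algz.sectMod A U G))))
    (ℓ : ∀ n : ℕ, ModuleCat.of A (Formal2.quotPow A I ↑(limit (Algz.sectMod A U G)) n) ⟶ (Algz.sectMod A U G).obj (op n))
    (hℓ : ∀ n : ℕ, ModuleCat.ofHom (Formal2.quotPowπ A I ↑(limit (Algz.sectMod A U G)) n) ≫ ℓ n =
      limit.π (Algz.sectMod A U G) (op n))
    (W : (Spec (CommRingCat.of A)).Opens)
    (x : ∀ n : ℕ, Γ(Formal2.tmod A (Formal2.quotPow A I ↑(limit (Algz.sectMod A U G)) n), W))
    (hx : ∀ n : ℕ, (Formal2.tmodMap A (Formal2.quotPowTrans A I ↑(limit (Algz.sectMod A U G)) n)).app W (x (n + 1)) = x n)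
    (h0 : ∀ n : ℕ, (((tilde.adjunction (R := CommRingCat.of A)).homEquiv
      (ModuleCat.of A (Formal2.quotPow A I ↑(limit (Algz.sectMod A U G)) n))
      ((Scheme.Modules.pushforward U.ι).obj (G.obj (op n)))).symm (ℓ n)).app W (x n) = 0) (n : ℕ) :
    x n = 0 := by
  let X := Algz.sectMod A U G
  let T := tilde.functor (CommRingCat.of A)
  let Q := quotSys I (limit X)
  have hx' : ∀ j k (h : j ≤ k), (T.map (tr Q h)).app W (x k) = x j := by
    intro j k h
    induction k, h using Nat.le_induction with
    | base => rw [show tr Q (le_refl j) = 𝟙 _ from Q.map_id _, T.map_id]; rfl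
    | succ k h ih =>
      rw [← tr_tr Q h (Nat.le_succ k), T.map_comp]
      show (T.map (tr Q h)).app W ((T.map (tr Q (Nat.le_succ k))).app W (x (k + 1))) = x j
      have e : tr Q (Nat.le_succ k) = ModuleCat.ofHom (Formal2.quotPowTrans A I ↑(limit X) k) :=
        Functor.ofOpSequence_map_homOfLE_succ _ k
      have e' : (T.map (tr Q (Nat.le_succ k))).app W (x (k + 1)) = x k :=
        (congrArg (fun f => (T.map f).app W (x (k + 1))) e).trans (hx k)
      exact (congrArg (fun y => (T.map (tr Q h)).app W y) e').trans ih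
  obtain ⟨N₀, hN₀⟩ := hb (n + 1)
  let N := max n N₀
  let R₁ : ModuleCat.{u} A := ModuleCat.of A (LinearMap.range (ℓ N).hom)
  let i : R₁ ⟶ X.obj (op N) := FormPunct.inc _
  let rr : ModuleCat.of A (Formal2.quotPow A I ↑(limit X) N) ⟶ R₁ := ModuleCat.ofHom (ℓ N).hom.rangeRestrict
  have hker : LinearMap.ker (ℓ N).hom ≤ LinearMap.ker (tr Q (le_max_left n N₀)).hom := by
    intro z hz
    obtain ⟨m, rfl⟩ := Submodule.mkQ_surjective _ z
    rw [LinearMap.mem_ker]
    refine (quotSys_map_mk I (limit X) (le_max_left n N₀) m).trans ?_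
    refine (Submodule.Quotient.mk_eq_zero _).2 (hN₀ ?_)
    have hm : (limit.π X (op N)).hom m = 0 := (congr(($(hℓ N)).hom m)).symm.trans hz
    rw [LinearMap.mem_ker, ← π_tr X (le_max_right n N₀), hm, map_zero]
  let φ : R₁ ⟶ ModuleCat.of A (Formal2.quotPow A I ↑(limit X) n) :=
    ModuleCat.ofHom (((LinearMap.ker (ℓ N).hom).liftQ (tr Q (le_max_left n N₀)).hom hker).comp
      (ℓ N).hom.quotKerEquivRange.symm.toLinearMap)
  have hφ : rr ≫ φ = tr Q (le_max_left n N₀) := ModuleCat.hom_ext (LinearMap.ext fun z => by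
    show (LinearMap.ker (ℓ N).hom).liftQ _ hker ((ℓ N).hom.quotKerEquivRange.symm ((ℓ N).hom.rangeRestrict z)) = _
    rw [show (ℓ N).hom.rangeRestrict z = (ℓ N).hom.quotKerEquivRange (Submodule.Quotient.mk z) from rfl,
      LinearEquiv.symm_apply_apply, Submodule.liftQ_apply]
    rfl)
  haveI : IsIso ((tilde.adjunction (R := CommRingCat.of A)).counit.app
      ((Scheme.Modules.pushforward U.ι).obj (G.obj (op N)))) := exists_sections_iso U hG N
  have h1 : (T.map (ℓ N)).app W (x N) = 0 := by
    have h := h0 N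
    rw [Adjunction.homEquiv_counit] at h
    exact (ConcreteCategory.bijective_of_isIso
      (((tilde.adjunction (R := CommRingCat.of A)).counit.app ((Scheme.Modules.pushforward U.ι).obj (G.obj (op N)))).app W)).1
      (h.trans (map_zero _).symm)
  haveI : Mono i := (ModuleCat.mono_iff_injective _).2 Subtype.val_injective
  haveI : Mono (T.map i) := QC.tilde_map_mono (R := CommRingCat.of A) i
  have h2 : (T.map rr).app W (x N) = 0 := by
    apply QC.app_injective_of_mono (T.map i) W
    rw [map_zero]
    refine Eq.trans ?_ h1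
    rw [show ℓ N = rr ≫ i from rfl, T.map_comp]
    rfl
  rw [← hx' n N (le_max_left _ _), ← hφ, T.map_comp]
  show (T.map φ).app W ((T.map rr).app W (x N)) = 0
  rw [h2, map_zero]

end Groth.Agent.AlgzSys
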